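import Cfsg.Agent.Lib.Spor.MTwentyFourOrder.ThreeCase.Check

/-!
The check of the case with automiser three at seven finds every completion.
-/

set_option autoImplicit false
set_option maxRecDepth 100000
set_option maxHeartbeats 1000000

namespace Cfsg.Agent.MTwentyFour.ByOrder.ThreeCase

theorem sumT_perm (F : Tr → ℤ) {A B : List Tr} (h : A.Perm B) : sumT F A = sumT F B := (h.map F).sum_eq

theorem sumT_append (F : Tr → ℤ) (A B : List Tr) : sumT F (A ++ B) = sumT F A + sumT F B := by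
  simp [sumT]

theorem sumT_expand (F : Tr → ℤ) : ∀ L : List Tr, sumT F (expand L) = sumT (fun x => wt x.1 * F x) L
  | [] => rfl
  | x :: L => by
    have ih := sumT_expand F L
    simp only [sumT, expand, List.flatMap_cons, List.map_append, List.sum_append, List.map_cons, List.sum_cons,
      List.map_replicate, List.sum_replicate] at ih ⊢
    rw [ih, nsmul_eq_mul, Int.toNat_of_nonneg (by unfold wt; split <;> (try split) <;> norm_num)]

theorem wt_pos (d : ℕ) : 1 ≤ wt d := by unfold wt; split <;> (try split) <;> norm_num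

theorem c23_sq (d : ℕ) : c23 d * c23 d = 1 := by unfold c23; split <;> (try split) <;> norm_num

theorem s11_sq {d : ℕ} (hd : d ∈ yl) : s11 d * s11 d = 1 :=
  (show ∀ d ∈ yl, s11 d * s11 d = 1 by decide +kernel) d hd

theorem s11_sq_le (d : ℕ) : s11 d * s11 d ≤ 1 := by unfold s11; split <;> (try split) <;> norm_num

theorem mem_popts {d : ℕ} {f : ℤ} (h : pok d f = true) : f ∈ popts d := by
  have h' := h
  simp only [pok, Bool.and_eq_true, decide_eq_true_eq] at h'
  have hb : -7 ≤ f ∧ f ≤ 7 := by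
    have := h'.1.1.1.1.1.1
    constructor <;> nlinarith [sq_nonneg (f - 8), sq_nonneg (f + 8)]
  refine List.mem_filter.2 ⟨List.mem_map.2 ⟨(f + 7).toNat, List.mem_range.2 ?_, ?_⟩, h⟩ <;> omega

theorem mem_zopts {C d : ℕ} (hC : C ≤ 15646) {z : ℤ} (h : zok C d z = true) : z ∈ zopts C d := by
  have h' := h
  simp only [zok, Bool.and_eq_true, decide_eq_true_eq] at h'
  have hb : -125 ≤ z ∧ z ≤ 125 := by
    have := h'.1.1.1.1.1.1
    have hC' : (C : ℤ) ≤ 15646 := by exact_mod_cast hC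
    constructor <;> nlinarith [sq_nonneg (z - 126), sq_nonneg (z + 126)]
  have h4 := h'.1.1.1.1.1.2
  refine List.mem_filter.2 ⟨List.mem_map.2 ⟨((z - ((d % 4 : ℕ) : ℤ)) / 4 + 32).toNat, List.mem_range.2 ?_, ?_⟩, h⟩
  · omega
  · omega

/-- the order on triples -/
def trLe (a b : Tr) : Bool :=
  decide (a.1 < b.1) || (decide (a.1 = b.1) && (decide (a.2.1 < b.2.1) ||
    (decide (a.2.1 = b.2.1) && decide (a.2.2 ≤ b.2.2))))

theorem trLe_iff {a b : Tr} :
    trLe a b = true ↔ a.1 < b.1 ∨ (a.1 = b.1 ∧ (a.2.1 < b.2.1 ∨ (a.2.1 = b.2.1 ∧ a.2.2 ≤ b.2.2))) := by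
  simp [trLe, Bool.and_eq_true, Bool.or_eq_true]

/-- a sorted form of a list of triples -/
def srt (L : List Tr) : List Tr := L.mergeSort trLe

theorem srt_perm (L : List Tr) : (srt L).Perm L := List.mergeSort_perm L trLe

theorem srt_pairwise (L : List Tr) : (srt L).Pairwise fun a b => trLe a b = true := by
  refine List.pairwise_mergeSort ?_ ?_ L
  · intro a b c h1 h2
    simp only [trLe_iff] at *
    omega
  · intro a b
    simp only [Bool.or_eq_true, trLe_iff]
    omega

theorem srt_fst (L : List Tr) : ((srt L).map Prod.fst).Pairwise (· ≤ ·) :=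
  List.pairwise_map.2 ((srt_pairwise L).imp fun {a b} h => by simp only [trLe_iff] at h; omega)

theorem arrange_perm {β : Type} (key : β → ℕ) : ∀ (ks : List ℕ) (l : List β), ks.Nodup → (∀ x ∈ l, key x ∈ ks) →
    (arrange key ks l).Perm l
  | [], l, _, h => by
    have : l = [] := List.eq_nil_iff_forall_not_mem.2 fun x hx => absurd (h x hx) (List.not_mem_nil)
    subst this; exact List.Perm.refl _
  | d :: ks, l, hnd, h => by
    obtain ⟨hd, hnd'⟩ := List.nodup_cons.1 hnd
    have h1 : arrange key ks l = arrange key ks (l.filter fun x => !(key x == d)) := by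
      simp only [arrange, List.filter_filter]
      refine List.flatMap_congr fun e he => List.filter_congr fun x _ => ?_
      by_cases hxe : key x = e
      · subst hxe
        have hne : ¬key x = d := fun hh => hd (hh ▸ he)
        simp [hne]
      · simp [hxe]
    have h2 := arrange_perm key ks (l.filter fun x => !(key x == d)) hnd' fun x hx => by
      obtain ⟨hx, hxd⟩ := List.mem_filter.1 hx
      exact (List.mem_cons.1 (h x hx)).resolve_left (by simpa using hxd)
    show (l.filter (fun x => key x == d) ++ arrange key ks l).Perm l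
    rw [h1]
    exact (List.Perm.append_left _ h2).trans (List.filter_append_perm (fun x => key x == d) l)

theorem arrange_map {β : Type} (key : β → ℕ) (ks : List ℕ) (l : List β) :
    (arrange key ks l).map key = arrange id ks (l.map key) := by
  simp only [arrange, List.map_flatMap]
  refine List.flatMap_congr fun d _ => ?_
  rw [List.filter_map]
  rfl

theorem arrange_pairwise {β : Type} (key : β → ℕ) (R : β → β → Prop) : ∀ (ks : List ℕ) (l : List β), ks.Nodup →
    l.Pairwise (fun a b => key a = key b → R a b) → (arrange key ks l).Pairwise (fun a b => key a = key b → R a b)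
  | [], _, _, _ => List.Pairwise.nil
  | d :: ks, l, hnd, h => by
    obtain ⟨hd, hnd'⟩ := List.nodup_cons.1 hnd
    show (l.filter (fun x => key x == d) ++ arrange key ks l).Pairwise _
    refine List.pairwise_append.2 ⟨h.filter _, arrange_pairwise key R ks l hnd' h, fun a ha b hb hab => ?_⟩
    obtain ⟨-, ha'⟩ := List.mem_filter.1 ha
    obtain ⟨e, he, hb'⟩ := List.mem_flatMap.1 hb
    obtain ⟨-, hbe⟩ := List.mem_filter.1 hb'
    simp only [beq_iff_eq] at ha' hbe
    exact absurd (ha'.symm.trans (hab.trans hbe)) fun hh => hd (hh ▸ he)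

theorem zip_eq : ∀ L : List Tr, (L.map Prod.fst).zip ((L.map fun x => x.2.1).zip (L.map fun x => x.2.2)) = L
  | [] => rfl
  | x :: L => by simp [zip_eq L]

theorem zipWith_eq : ∀ L : List Tr, (List.zipWith (fun (d : ℕ) (f : ℤ) => (d : ℤ) * f) (L.map Prod.fst)
    (L.map fun x => x.2.1)).sum = sumT (fun x => (x.1 : ℤ) * x.2.1) L
  | [] => rfl
  | x :: L => by simp [sumT, zipWith_eq L]

theorem zip2_eq : ∀ L : List Tr, (L.map Prod.fst).zip (L.map fun x => x.2.1) = L.map fun x => (x.1, x.2.1)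
  | [] => rfl
  | x :: L => by simp [zip2_eq L]

theorem sumT_congr {F F' : Tr → ℤ} (h : ∀ x, F x = F' x) (L : List Tr) : sumT F L = sumT F' L := by
  simp only [sumT, funext h]

theorem sumT_nonneg {F : Tr → ℤ} {L : List Tr} (h : ∀ x ∈ L, 0 ≤ F x) : 0 ≤ sumT F L :=
  List.sum_nonneg fun v hv => by obtain ⟨x, hx, rfl⟩ := List.mem_map.1 hv; exact h x hx

theorem cast_sqs (L : List Tr) : (((L.map fun x => x.1 * x.1).sum : ℕ) : ℤ) = sumT (fun x => (x.1 : ℤ) * x.1) L := by
  induction L with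
  | nil => rfl
  | cons x L ih => simp [sumT] at ih ⊢; rw [ih]

theorem sqs_perm {A B : List Tr} (h : A.Perm B) : (A.map fun x => x.1 * x.1).sum = (B.map fun x => x.1 * x.1).sum :=
  (h.map _).sum_eq

theorem final_perm (cs : Case) {A B : List Tr} (h : A.Perm B) : final cs A = final cs B := by
  simp only [final, sumT_perm _ h]

/-- the places of a stage, with the values -/
theorem phiIts_zip (c wgt : ℕ → ℤ) (L : List Tr) :
    (L.map fun x => ((⟨(x.1, 0), popts x.1, c x.1, c x.1 * nd x.1, wgt x.1, 0⟩ : It), x.2.1)).map Prod.fst =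
      phiIts c wgt (L.map Prod.fst) := by
  simp [phiIts, List.map_map, Function.comp_def]

theorem zIts_zip (C : ℕ) (c wgt : ℕ → ℤ) (L : List Tr) :
    (L.map fun x => ((⟨(x.1, x.2.1), zopts C x.1, c x.1, c x.1 * nd x.1, wgt x.1, c x.1 * nd x.1 * x.2.1⟩ : It),
      x.2.2)).map Prod.fst = zIts C c wgt ((L.map Prod.fst).zip (L.map fun x => x.2.1)) := by
  simp [zIts, zip2_eq, List.map_map, Function.comp_def]

/-- the two searches of one side find the values -/
theorem two_stage' (C : ℕ) (hC : C ≤ 15646) (c wgt : ℕ → ℤ) (L : List Tr) {bp bz lp qp lz qz mz : ℤ}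
    (g : List ℤ → Bool) (k : List ℤ → List ℤ → Bool)
    (hval : ∀ x ∈ L, pok x.1 x.2.1 = true ∧ zok C x.1 x.2.2 = true ∧ c x.1 * c x.1 = 1 ∧ 1 ≤ wgt x.1)
    (hord : L.Pairwise fun a b => a.1 = b.1 → trLe a b = true) (hg : g (L.map fun x => x.2.1) = true)
    (h1 : lp + sumT (fun x => c x.1 * x.2.1) L = 0)
    (h2 : (qp + sumT (fun x => c x.1 * nd x.1 * (x.2.1 * x.2.1)) L) % 3600 = 0)
    (h3 : 0 ≤ qp + sumT (fun x => c x.1 * nd x.1 * (x.2.1 * x.2.1)) L)
    (h4 : sumT (fun x => wgt x.1 * (x.2.1 * x.2.1)) L ≤ bp)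
    (h5 : lz + sumT (fun x => c x.1 * x.2.2) L = 0)
    (h6 : qz + sumT (fun x => c x.1 * nd x.1 * (x.2.2 * x.2.2)) L = 0)
    (h7 : sumT (fun x => wgt x.1 * (x.2.2 * x.2.2)) L ≤ bz)
    (h8 : (mz + sumT (fun x => c x.1 * nd x.1 * (x.2.1 * x.2.2)) L) % (60 * (C : ℤ)) = 0)
    (h9 : 0 ≤ mz + sumT (fun x => c x.1 * nd x.1 * (x.2.1 * x.2.2)) L)
    (hk : k (L.map fun x => x.2.1) (L.map fun x => x.2.2) = true) :
    go 3600 1 bp (prep 3600 1 (phiIts c wgt (L.map Prod.fst))) none lp qp 0 0 (fun fs => g fs &&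
      go 0 (60 * C) bz (prep 0 (60 * C) (zIts C c wgt ((L.map Prod.fst).zip fs))) none lz qz 0 mz fun zs => k fs zs) =
      true := by
  rw [← phiIts_zip c wgt L]
  have hp : ∀ (p : Tr → It × ℤ), (∀ x, (p x).1.c = c x.1) → sL (L.map p) = sumT (fun x => c x.1 * (p x).2) L := by
    intro p hc
    simp only [sL, sumT, List.map_map]
    exact congrArg List.sum (List.map_congr_left fun x _ => by simp only [Function.comp_apply, hc])
  refine go_sound 3600 1 bp _ none lp qp 0 0 _ ?_ ?_ (fun key v h => absurd h (by simp)) ?_ ?_ ?_ ?_ ?_ ?_ ?_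
  · intro a ha
    obtain ⟨x, hx, rfl⟩ := List.mem_map.1 ha
    obtain ⟨hf, -, hc, hw⟩ := hval x hx
    exact ⟨mem_popts hf, hc, hw⟩
  · refine List.pairwise_map.2 (hord.imp fun {a b} h he => ?_)
    have he' : (a.1, (0 : ℤ)) = (b.1, 0) := he
    have := trLe_iff.1 (h (Prod.ext_iff.1 he').1)
    have := (Prod.ext_iff.1 he').1
    simp only at this
    show a.2.1 ≤ b.2.1
    omega
  all_goals simp only [sL, sQ, sB, sM, List.map_map, Function.comp_def, zero_mul, List.map_const', List.sum_replicate,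
    smul_zero, add_zero, zero_add]
  · exact h1
  · exact h2
  · exact h3
  · exact h4
  · simp
  · simp
  · rw [Bool.and_eq_true]
    refine ⟨hg, ?_⟩
    rw [← zIts_zip C c wgt L]
    refine go_sound 0 (60 * C) bz _ none lz qz 0 mz _ ?_ ?_ (fun key v h => absurd h (by simp)) ?_ ?_ ?_ ?_ ?_ ?_ ?_
    · intro a ha
      obtain ⟨x, hx, rfl⟩ := List.mem_map.1 ha
      obtain ⟨-, hz, hc, hw⟩ := hval x hx
      exact ⟨mem_zopts hC hz, hc, hw⟩
    · refine List.pairwise_map.2 (hord.imp fun {a b} h he => ?_)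
      have he' : (a.1, a.2.1) = (b.1, b.2.1) := he
      have := trLe_iff.1 (h (Prod.ext_iff.1 he').1)
      have e1 : a.1 = b.1 := (Prod.ext_iff.1 he').1
      have e2 : a.2.1 = b.2.1 := (Prod.ext_iff.1 he').2
      show a.2.2 ≤ b.2.2
      omega
    all_goals simp only [sL, sQ, sB, sM, List.map_map, Function.comp_def, zero_add, mul_assoc]
    · exact h5
    · simp only [sumT, mul_assoc] at h6
      rw [h6]; rfl
    · simp only [sumT, mul_assoc] at h6
      rw [h6]
    · exact h7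
    · simp only [sumT, mul_assoc] at h8
      push_cast
      exact h8
    · simp only [sumT, mul_assoc] at h9
      exact h9
    · exact hk

/-- the two searches without a test between them -/
theorem two_stage (C : ℕ) (hC : C ≤ 15646) (c wgt : ℕ → ℤ) (L : List Tr) {bp bz lp qp lz qz mz : ℤ}
    (k : List ℤ → List ℤ → Bool)
    (hval : ∀ x ∈ L, pok x.1 x.2.1 = true ∧ zok C x.1 x.2.2 = true ∧ c x.1 * c x.1 = 1 ∧ 1 ≤ wgt x.1)
    (hord : L.Pairwise fun a b => a.1 = b.1 → trLe a b = true)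
    (h1 : lp + sumT (fun x => c x.1 * x.2.1) L = 0)
    (h2 : (qp + sumT (fun x => c x.1 * nd x.1 * (x.2.1 * x.2.1)) L) % 3600 = 0)
    (h3 : 0 ≤ qp + sumT (fun x => c x.1 * nd x.1 * (x.2.1 * x.2.1)) L)
    (h4 : sumT (fun x => wgt x.1 * (x.2.1 * x.2.1)) L ≤ bp)
    (h5 : lz + sumT (fun x => c x.1 * x.2.2) L = 0)
    (h6 : qz + sumT (fun x => c x.1 * nd x.1 * (x.2.2 * x.2.2)) L = 0)
    (h7 : sumT (fun x => wgt x.1 * (x.2.2 * x.2.2)) L ≤ bz)
    (h8 : (mz + sumT (fun x => c x.1 * nd x.1 * (x.2.1 * x.2.2)) L) % (60 * (C : ℤ)) = 0)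
    (h9 : 0 ≤ mz + sumT (fun x => c x.1 * nd x.1 * (x.2.1 * x.2.2)) L)
    (hk : k (L.map fun x => x.2.1) (L.map fun x => x.2.2) = true) :
    go 3600 1 bp (prep 3600 1 (phiIts c wgt (L.map Prod.fst))) none lp qp 0 0 (fun fs =>
      go 0 (60 * C) bz (prep 0 (60 * C) (zIts C c wgt ((L.map Prod.fst).zip fs))) none lz qz 0 mz fun zs => k fs zs) =
      true := by
  have := two_stage' C hC c wgt L (fun _ => true) k hval hord rfl h1 h2 h3 h4 h5 h6 h7 h8 h9 hk
  simpa using this

/-- A completion of the known members passes the check. -/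
theorem check_true (cs : Case) (hC : cs.C ≤ 15646) (l7 : List Tr) (gv : Tr) (L11 : List Tr) (h7 : l7.length = 7)
    (hx : ∀ x ∈ l7, x.1 ∈ xl) (hg : gv.1 ∈ gl) (hy : ∀ x ∈ L11, x.1 ∈ yl)
    (hval : ∀ x ∈ gv :: (l7 ++ L11), pok x.1 x.2.1 = true ∧ zok cs.C x.1 x.2.2 = true)
    (hd23 : 7525 + sumT (fun x => c23 x.1 * x.1) (gv :: l7) = 0)
    (hp23 : sumT (fun x => c23 x.1 * x.2.1) (gv :: l7) = 0)
    (hq23 : ((ordM : ℤ) + nd 5544 + sumT (fun x => c23 x.1 * nd x.1 * (x.2.1 * x.2.1)) (gv :: l7)) % 3600 = 0)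
    (hq23' : 0 ≤ (ordM : ℤ) + nd 5544 + sumT (fun x => c23 x.1 * nd x.1 * (x.2.1 * x.2.1)) (gv :: l7))
    (hz23 : 1 + cs.z2 + 2 * cs.f + sumT (fun x => c23 x.1 * x.2.2) (gv :: l7) = 0)
    (hy23 : (ordM : ℤ) + nd 5544 * (cs.z2 * cs.z2) + 2 * nd 990 * (cs.f * cs.f) +
      sumT (fun x => c23 x.1 * nd x.1 * (x.2.2 * x.2.2)) (gv :: l7) = 0)
    (hm23 : ((ordM : ℤ) - nd 5544 * cs.z2 + sumT (fun x => c23 x.1 * nd x.1 * (x.2.1 * x.2.2)) (gv :: l7)) %
      (60 * (cs.C : ℤ)) = 0)
    (hm23' : 0 ≤ (ordM : ℤ) - nd 5544 * cs.z2 + sumT (fun x => c23 x.1 * nd x.1 * (x.2.1 * x.2.2)) (gv :: l7))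
    {All : List Tr} (hAll : All = known cs ++ expand (gv :: l7) ++ L11)
    (hcount : sumT (fun x => s11 x.1 * s11 x.1) All = 11)
    (hsq : sumT (fun x => (x.1 : ℤ) * x.1) All ≤ ordM)
    (hfill : ((ordM : ℤ) - sumT (fun x => (x.1 : ℤ) * x.1) All) % 64009 = 0)
    (hphi : sumT (fun x => x.2.1 * x.2.1) All ≤ 60) (hzz : sumT (fun x => x.2.2 * x.2.2) All ≤ cs.C)
    (hd11 : sumT (fun x => s11 x.1 * x.1) All = 0)
    (hp11 : sumT (fun x => s11 x.1 * x.2.1) All = 0)
    (hq11 : sumT (fun x => s11 x.1 * nd x.1 * (x.2.1 * x.2.1)) All % 3600 = 0)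
    (hq11' : 0 ≤ sumT (fun x => s11 x.1 * nd x.1 * (x.2.1 * x.2.1)) All)
    (hz11 : sumT (fun x => s11 x.1 * x.2.2) All = 0)
    (hy11 : sumT (fun x => s11 x.1 * nd x.1 * (x.2.2 * x.2.2)) All = 11 * (cs.C : ℤ) * cs.C)
    (hm11 : sumT (fun x => s11 x.1 * nd x.1 * (x.2.1 * x.2.2)) All % (60 * (cs.C : ℤ)) = 0)
    (hm11' : 0 ≤ sumT (fun x => s11 x.1 * nd x.1 * (x.2.1 * x.2.2)) All)
    (hfirst : sumT (fun x => (x.1 : ℤ) * x.2.1) All * sumT (fun x => (x.1 : ℤ) * x.2.1) All ≤
      ((ordM : ℤ) - sumT (fun x => (x.1 : ℤ) * x.1) All) * (60 - sumT (fun x => x.2.1 * x.2.1) All))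
    (hfinal : final cs All = true) :
    ∃ L : List Tr, (∀ k : List ℕ → Bool, k (L.map Prod.fst) = true → rowsRun k = true) ∧
      (∀ k : List Tr → Bool, k L = true → side23 cs (L.map Prod.fst) k = true) ∧
      side11 cs (known cs ++ expand L) = true := by
  set s7 := srt l7 with hs7
  have hp7 : s7.Perm l7 := srt_perm l7
  have hmem7 : ∀ x ∈ s7, x.1 ∈ xl := fun x h => hx x (hp7.mem_iff.1 h)
  set L := arrange (fun x : Tr => x.1) keys (gv :: s7) with hL
  have hkeys : keys.Nodup := by decide +kernel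
  have hLp : L.Perm (gv :: l7) := (arrange_perm _ keys _ hkeys fun x h => by
    have h1 : ∀ d ∈ xl, d ∈ keys := by decide +kernel
    have h2 : ∀ d ∈ gl, d ∈ keys := by decide +kernel
    rcases List.mem_cons.1 h with rfl | h
    exacts [h2 _ hg, h1 _ (hmem7 _ h)]).trans (hp7.cons gv)
  have hord : L.Pairwise fun a b => a.1 = b.1 → trLe a b = true := by
    refine arrange_pairwise (fun x : Tr => x.1) _ keys _ hkeys (List.pairwise_cons.2 ⟨fun x h he => ?_, ?_⟩)
    · exact absurd (he ▸ hmem7 x h) (fun hh => (show ∀ d ∈ gl, d ∉ xl by decide +kernel) _ hg hh)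
    · exact (srt_pairwise l7).imp (S := fun a b : Tr => a.1 = b.1 → trLe a b = true) fun {a b} h _ => h
  set A := known cs ++ expand L with hA
  have hAp : (A ++ L11).Perm All := hAll ▸ ((hLp.flatMap_right _).append_left (known cs)).append_right L11
  have hsplit : ∀ F, sumT F All = sumT F (known cs) + sumT (fun x => wt x.1 * F x) (gv :: l7) + sumT F L11 := by
    intro F; rw [hAll, sumT_append, sumT_append, sumT_expand]
  have hsqs : ((((known cs).map fun x => x.1 * x.1).sum : ℕ) : ℤ) = sumT (fun x => (x.1 : ℤ) * x.1) (known cs) :=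
    cast_sqs _
  have hLsq : 0 ≤ sumT (fun x => (x.1 : ℤ) * x.1) L11 := sumT_nonneg fun x _ => mul_self_nonneg _
  have hB := hsplit (fun x => (x.1 : ℤ) * x.1)
  have hwtg : ∀ d ∈ gl, wt d = 2 := by decide +kernel
  have hwtx : ∀ d ∈ xl, wt d = 1 := by decide +kernel
  have hB7 : sumT (fun x => wt x.1 * ((x.1 : ℤ) * x.1)) (gv :: l7) =
      2 * ((gv.1 : ℤ) * gv.1) + (((s7.map Prod.fst).map fun d => d * d).sum : ℕ) := by
    rw [List.map_map, sqs_perm (A := s7) (B := l7) hp7 |> (fun e => show (List.map ((fun d => d * d) ∘ Prod.fst) s7).sum = _ from e),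
      cast_sqs]
    simp only [sumT, List.map_cons, List.sum_cons, hwtg _ hg]
    congr 1
    exact congrArg List.sum (List.map_congr_left fun x h => by rw [hwtx _ (hx x h), one_mul])
  have hd23' : 7525 + ((s7.map Prod.fst).map fun d => c23 d * (d : ℤ)).sum + c23 gv.1 * (gv.1 : ℤ) = 0 := by
    rw [List.map_map, show (List.map ((fun d : ℕ => c23 d * (d : ℤ)) ∘ Prod.fst) s7).sum =
      sumT (fun x => c23 x.1 * (x.1 : ℤ)) l7 from sumT_perm (fun x => c23 x.1 * (x.1 : ℤ)) hp7]
    simp only [sumT, List.map_cons, List.sum_cons] at hd23 ⊢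
    linarith
  have hfit : ((s7.map Prod.fst).map fun d => d * d).sum + 2 * (gv.1 * gv.1) ≤
      ordM - ((known cs).map fun x => x.1 * x.1).sum := by
    rw [hB, hB7, ← hsqs, ← Nat.cast_mul] at hsq
    simp only [ordM] at hsq ⊢
    generalize ((known cs).map fun x => x.1 * x.1).sum = K at hsq ⊢
    generalize ((s7.map Prod.fst).map fun d => d * d).sum = W at hsq ⊢
    generalize gv.1 * gv.1 = g at hsq ⊢
    omega
  have hroom : ordM - ((known cs).map fun x => x.1 * x.1).sum = room := rfl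
  rw [hroom] at hfit
  refine ⟨L, fun k hk => ?_, fun k hk => ?_, ?_⟩
  unfold rowsRun
  rw [← h7, ← hp7.length_eq, ← List.length_map (f := Prod.fst) (as := s7)]
  refine rowsGo_sound c23 2 _ (s7.map Prod.fst) xl 7525 0 _ (by decide +kernel)
    (fun a ha => by obtain ⟨x, hx', rfl⟩ := List.mem_map.1 ha; exact hmem7 x hx') (srt_fst l7) (by omega) ?_
    (fun a _ => (c23_sq a).le) ?_
  · have h1 : 7525 + ((s7.map Prod.fst).map fun d => c23 d * (d : ℤ)).sum = -(c23 gv.1 * (gv.1 : ℤ)) := by linarith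
    rw [h1, neg_mul_neg, show c23 gv.1 * (gv.1 : ℤ) * (c23 gv.1 * (gv.1 : ℤ)) =
      c23 gv.1 * c23 gv.1 * ((gv.1 : ℤ) * gv.1) by ring, c23_sq, one_mul, Nat.zero_add]
    have h2 : gv.1 * gv.1 + gv.1 * gv.1 ≤
        room - ((s7.map Prod.fst).map fun d => d * d).sum := by omega
    have h3 : (0 : ℤ) ≤ ((gv.1 : ℤ) * gv.1) := mul_self_nonneg _
    zify at h2
    simp only [Nat.cast_ofNat] at h2 ⊢
    linarith
  simp only [List.any_eq_true, Bool.and_eq_true, decide_eq_true_eq]
  refine ⟨gv.1, hg, ⟨hd23', hfit⟩, ?_⟩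
  · rw [← List.map_cons (f := Prod.fst), ← arrange_map, ← hL]
    exact hk
  have hc : ∀ F, sumT F L = sumT F (gv :: l7) := fun F => sumT_perm F hLp
  unfold side23
  refine two_stage cs.C hC c23 wt L (fun fs zs => k ((L.map Prod.fst).zip (fs.zip zs)))
    (fun x h => ?_) hord ?_ ?_ ?_ ?_ ?_ ?_ ?_ ?_ ?_ (by rw [zip_eq]; exact hk)
  · have h' := hLp.mem_iff.1 h
    obtain ⟨h1, h2⟩ := hval x (by rcases List.mem_cons.1 h' with rfl | h' <;> simp [*])
    exact ⟨h1, h2, c23_sq _, wt_pos _⟩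
  · rw [zero_add, hc, hp23]
  · rw [hc]; exact hq23
  · rw [hc]; exact hq23'
  · rw [hc]
    have h1 := hsplit (fun x => x.2.1 * x.2.1)
    have h2 : 0 ≤ sumT (fun x => x.2.1 * x.2.1) L11 := sumT_nonneg fun x _ => mul_self_nonneg _
    have h3 : sumT (fun x => x.2.1 * x.2.1) (known cs) = 5 := by simp [sumT, known]
    linarith
  · rw [hc]; exact hz23
  · rw [hc]; exact hy23
  · rw [hc]
    have h1 := hsplit (fun x => x.2.2 * x.2.2)
    have h2 : 0 ≤ sumT (fun x => x.2.2 * x.2.2) L11 := sumT_nonneg fun x _ => mul_self_nonneg _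
    linarith
  · rw [hc]; exact hm23
  · rw [hc]; exact hm23'
  -- the block of eleven
  rw [← hA]
  set s := srt L11 with hs
  have hps : s.Perm L11 := srt_perm L11
  have hall : ∀ F, sumT F A + sumT F s = sumT F All := fun F => by
    rw [← sumT_append, sumT_perm F ((hps.append_left A).trans hAp)]
  have hmemy : ∀ x ∈ s, x.1 ∈ yl := fun x h => hy x (hps.mem_iff.1 h)
  have hlen : ((s.map Prod.fst).length : ℤ) = 11 - sumT (fun x => s11 x.1 * s11 x.1) A := by
    have h1 := hall (fun x => s11 x.1 * s11 x.1)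
    rw [hcount] at h1
    have h2 : sumT (fun x => s11 x.1 * s11 x.1) s = (s.length : ℤ) := by
      simp only [sumT]
      rw [List.map_congr_left (g := fun _ => (1 : ℤ)) fun x h => s11_sq (hmemy x h)]
      simp
    rw [List.length_map]
    linarith
  unfold side11
  simp only [Bool.and_eq_true, decide_eq_true_eq]
  refine ⟨by have := Int.natCast_nonneg (s.map Prod.fst).length; linarith, ?_⟩
  rw [show (11 - sumT (fun x => s11 x.1 * s11 x.1) A).toNat = (s.map Prod.fst).length by omega]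
  have hAsq : (((A.map fun x => x.1 * x.1).sum + ((s.map Prod.fst).map fun d => d * d).sum : ℕ) : ℤ) =
      sumT (fun x => (x.1 : ℤ) * x.1) All := by
    rw [← hall, List.map_map, Nat.cast_add, cast_sqs,
      show (List.map ((fun d => d * d) ∘ Prod.fst) s) = s.map fun x => x.1 * x.1 from rfl, cast_sqs]
  refine rowsGo_sound s11 0 ordM (s.map Prod.fst) yl _ _ _ (by decide +kernel)
    (fun a ha => by obtain ⟨x, hx', rfl⟩ := List.mem_map.1 ha; exact hmemy x hx') (srt_fst L11)
    (by zify; push_cast at hAsq; linarith) ?_ (fun a _ => s11_sq_le a) ?_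
  · rw [List.map_map, show (List.map ((fun a : ℕ => s11 a * (a : ℤ)) ∘ Prod.fst) s).sum =
      sumT (fun x => s11 x.1 * (x.1 : ℤ)) s from rfl, hall, hd11]
    simp
  simp only [Bool.and_eq_true, decide_eq_true_eq]
  refine ⟨?_, ?_⟩
  · rw [← hAsq] at hfill hsq
    omega
  have hord' : (arrange (fun x : Tr => x.1) keysY s).Pairwise fun a b => a.1 = b.1 → trLe a b = true :=
    arrange_pairwise (fun x : Tr => x.1) _ keysY _ (by decide +kernel) ((srt_pairwise L11).imp (S := fun a b : Tr => a.1 = b.1 → trLe a b = true) fun {a b} h _ => h)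
  have hY : ∀ d ∈ yl, d ∈ keysY := by decide +kernel
  have hSp : (arrange (fun x : Tr => x.1) keysY s).Perm s :=
    arrange_perm _ keysY _ (by decide +kernel) fun x h => hY _ (hmemy x h)
  rw [← arrange_map]
  generalize hS : arrange (fun x : Tr => x.1) keysY s = S at hord' hSp ⊢
  have hS' : ∀ F, sumT F A + sumT F S = sumT F All := fun F => by rw [sumT_perm F hSp]; exact hall F
  have e1 : ∀ F : Tr → ℤ, sumT (fun x => (fun _ => (1 : ℤ)) x.1 * F x) S = sumT F S := fun F =>
    sumT_congr (fun x => one_mul _) S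
  have hfst : first A (S.map Prod.fst) (S.map fun x => x.2.1) = true := by
    simp only [first, decide_eq_true_eq]
    rw [List.map_map, List.map_map, zipWith_eq, show (List.map ((fun d : ℕ => (d : ℤ) * d) ∘ Prod.fst) S).sum =
      sumT (fun x => (x.1 : ℤ) * x.1) S from rfl,
      show (List.map ((fun f : ℤ => f * f) ∘ fun x : Tr => x.2.1) S).sum = sumT (fun x => x.2.1 * x.2.1) S from rfl,
      sub_sub, sub_sub, hS', hS', hS']
    exact hfirst
  refine two_stage' cs.C hC s11 (fun _ => 1) S (first A (S.map Prod.fst))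
    (fun fs zs => final cs (A ++ (S.map Prod.fst).zip (fs.zip zs))) (fun x h => ?_) hord' hfst ?_ ?_ ?_ ?_ ?_ ?_ ?_ ?_
    ?_ ?_
  · have h' := hps.mem_iff.1 (hSp.mem_iff.1 h)
    obtain ⟨h1, h2⟩ := hval x (by simp [h'])
    exact ⟨h1, h2, s11_sq (hy x h'), le_rfl⟩
  · rw [hS']; exact hp11
  · rw [hS']; exact hq11
  · rw [hS']; exact hq11'
  · rw [e1]; have := hS' (fun x => x.2.1 * x.2.1); linarith
  · rw [hS']; exact hz11
  · rw [sub_add_eq_add_sub, hS', hy11, sub_self]
  · rw [e1]; have := hS' (fun x => x.2.2 * x.2.2); linarith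
  · rw [hS']; exact hm11
  · rw [hS']; exact hm11'
  · rw [zip_eq, final_perm cs ((List.Perm.append_left A (hSp.trans hps)).trans hAp)]
    exact hfinal

end Cfsg.Agent.MTwentyFour.ByOrder.ThreeCase
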