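import Cfsg.Agent.Lib.Spor.MTwentyFourOrder.FiveCol
import Cfsg.Agent.Lib.Spor.MTwentyFourOrder.ThreeCase.Sound

/-!
A simple group of the order of the Mathieu group of degree twenty-four: the characters sorted by their weights at
twenty-three and eleven, and the sums of the columns as integers.
-/

set_option autoImplicit false
set_option linter.unusedSectionVars false
set_option maxRecDepth 100000
set_option maxHeartbeats 1000000

namespace Cfsg.Agent.MTwentyFour.ByOrder.ThreeCase

open Cfsg Cfsg.Agent.Char Cfsg.Agent.Small.Order459648 Cfsg.Agent.Char.PrimeSylowCount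
open Cfsg.Agent.MTwelve.OrderFront (val_one)
open Cfsg.Agent.MTwentyFour.ByOrder.Ten (TCol mEl w11 w23)
open Cfsg.Agent.MTwentyFour.ByOrder.FiveColumn (FCol)
open scoped ComplexConjugate
open scoped _root_.Classical

universe u

theorem w11_eq (d : ℕ) : w11 d = s11 d := rfl

variable {G : Type u} [Group G] [Fintype G] [IsSimpleGroup G]

local instance fact_twentyThreeSplit : Fact (Nat.Prime 23) := ⟨by norm_num⟩
local instance fact_elevenSplit : Fact (Nat.Prime 11) := ⟨by norm_num⟩

/-- The block of twenty-three: eleven ordinary members and two exceptional ones, equal at regular elements. -/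
theorem exists_split23 (hG : Nat.card G = 244823040) :
    ∃ η η' : IrrCharacter G, η ≠ η' ∧
      (∀ χ : IrrCharacter G, (w23 (charDegree (χ : G → ℂ))).natAbs = 1 ↔ χ = η ∨ χ = η') ∧
      (Finset.univ.filter fun χ : IrrCharacter G => (w23 (charDegree (χ : G → ℂ))).natAbs = 2).card = 11 ∧
      ∀ x : G, ¬ 23 ∣ orderOf x → (η' : G → ℂ) x = (η : G → ℂ) x := by
  obtain ⟨R, hR, hRC, heR⟩ := exists_twentythree hG
  obtain ⟨M, X, Y, α, δ, hM, h, -, -, hYc, hout⟩ :=
    Ten.selfcent_data R hR hRC heR (t := 2) (by norm_num) (by norm_num) (by norm_num)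
  obtain ⟨η, η', hne, hY⟩ := Finset.card_eq_two.1 hYc
  have hX : ∀ χ ∈ X, (w23 (charDegree (χ : G → ℂ))).natAbs = 2 := fun χ hχ => by
    have h2 := (h.a_congr χ hχ).eq
    rcases h.a_sign χ hχ with e' | e' <;> rw [e'] at h2 <;> simp only [w23] <;> split_ifs <;> omega
  have hYv : ∀ χ ∈ Y, (w23 (charDegree (χ : G → ℂ))).natAbs = 1 := fun χ hχ => by
    have h2 := (h.congrY χ hχ).eq
    rcases h.sign with e' | e' <;> rw [e'] at h2 <;> simp only [w23] <;> split_ifs <;> omega
  have ho : ∀ χ, χ ∉ X → χ ∉ Y → (w23 (charDegree (χ : G → ℂ))).natAbs = 0 := fun χ h1 h2 => by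
    have := Nat.mod_eq_zero_of_dvd (hout χ h1 h2).2
    simp only [w23]; split_ifs <;> omega
  refine ⟨η, η', hne, fun χ => ?_, ?_, fun x hx => ?_⟩
  · have e : χ ∈ Y ↔ χ = η ∨ χ = η' := by rw [hY]; simp
    rw [← e]
    refine ⟨fun h1 => ?_, hYv χ⟩
    by_contra hc
    by_cases hXm : χ ∈ X
    · have := hX χ hXm; omega
    · have := ho χ hXm hc; omega
  · rw [show (Finset.univ.filter fun χ : IrrCharacter G => (w23 (charDegree (χ : G → ℂ))).natAbs = 2) = X by
      ext χ
      simp only [Finset.mem_filter, Finset.mem_univ, true_and]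
      refine ⟨fun h1 => ?_, hX χ⟩
      by_contra hc
      by_cases hYm : χ ∈ Y
      · have := hYv χ hYm; omega
      · have := ho χ hc hYm; omega, h.cardX]
  · exact h.regY η' (by rw [hY]; simp) η (by rw [hY]; simp) x hx

theorem deg_pos' (χ : IrrCharacter G) : 0 < charDegree (χ : G → ℂ) := by
  rw [charDegree_eq_deg]; exact deg_pos χ.2

theorem deg_dvd (hG : Nat.card G = 244823040) (χ : IrrCharacter G) : charDegree (χ : G → ℂ) ∣ ordM := by
  rw [charDegree_eq_deg, ordM, ← hG]; exact deg_dvd_card χ.2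

/-- A weighted sum of quotients by the degrees, as an integer. -/
theorem int_form (hG : Nat.card G = 244823040) (w a : IrrCharacter G → ℤ) :
    ((∑ χ : IrrCharacter G, w χ * nd (charDegree (χ : G → ℂ)) * a χ : ℤ) : ℂ) =
      244823040 * ∑ χ : IrrCharacter G, (w χ : ℂ) * (a χ : ℂ) / (charDegree (χ : G → ℂ) : ℂ) := by
  rw [Int.cast_sum, Finset.mul_sum]
  refine Finset.sum_congr rfl fun χ _ => ?_
  have hd : (charDegree (χ : G → ℂ) : ℂ) ≠ 0 := Nat.cast_ne_zero.2 (deg_pos' χ).ne'
  rw [nd, Int.cast_mul, Int.cast_mul, Int.cast_natCast, Nat.cast_div (deg_dvd hG χ) hd]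
  simp only [ordM]
  push_cast
  ring

/-- An integer column orthogonal to the first and to the one of an element of order twenty-three. -/
theorem weighted_deg (hG : Nat.card G = 244823040) {P : Sylow 11 G} {g : G} {z : IrrCharacter G → ℤ} {C : ℕ}
    (T : TCol P g z C) :
    ∑ χ : IrrCharacter G, (charDegree (χ : G → ℂ) : ℤ) * (charDegree (χ : G → ℂ) : ℤ) = 244823040 ∧
    ∑ χ : IrrCharacter G, w11 (charDegree (χ : G → ℂ)) * w11 (charDegree (χ : G → ℂ)) = 11 ∧
    ∑ χ : IrrCharacter G, w11 (charDegree (χ : G → ℂ)) * (charDegree (χ : G → ℂ) : ℤ) = 0 ∧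
    ∑ χ : IrrCharacter G, w23 (charDegree (χ : G → ℂ)) * (charDegree (χ : G → ℂ) : ℤ) = 0 ∧
    ∑ χ : IrrCharacter G, (charDegree (χ : G → ℂ) : ℤ) * z χ = 0 := by
  obtain ⟨y, hy⟩ := Ten.exists_y P T.card
  have hy1 : (y : G) ≠ 1 := mem_nonOne.1 hy
  have hy11 : orderOf (y : G) = 11 := Sections.order_eq T.card y.2 hy1
  have hyval : ∀ χ : IrrCharacter G, (χ : G → ℂ) (y : G) = (w11 (charDegree (χ : G → ℂ)) : ℂ) := fun χ =>
    T.val_eleven χ _ y.2 hy1
  have h1card : Nat.card {x : G // IsConj 1 x} = 1 := by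
    rw [Nat.card_eq_one_iff_unique]
    refine ⟨⟨fun a b => ?_⟩, ⟨⟨1, IsConj.refl 1⟩⟩⟩
    obtain ⟨p, hp⟩ := isConj_iff.1 a.2
    obtain ⟨q, hq⟩ := isConj_iff.1 b.2
    exact Subtype.ext (by rw [← hp, ← hq]; group)
  refine ⟨?_, ?_, ?_, ?_, ?_⟩
  · have h := second_orth (G := G) 1 1
    rw [if_pos (IsConj.refl _), h1card, Nat.cast_one, div_one, hG] at h
    simp only [val_one, map_intCast] at h
    exact_mod_cast h
  · have h := second_orth (G := G) (y : G) (y : G)
    rw [if_pos (IsConj.refl _)] at h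
    have hcl := card_conjClass_mul_centralizer (y : G)
    rw [Sections.cent_eq T.card y.2 hy1, T.cent] at hcl
    have hne : (Nat.card {x : G // IsConj (y : G) x} : ℂ) ≠ 0 := Nat.cast_ne_zero.2 (card_conjClass_ne_zero _)
    rw [← hcl, Nat.cast_mul, mul_div_cancel_left₀ _ hne] at h
    simp only [hyval, map_intCast] at h
    exact_mod_cast h
  · have h := second_orth (G := G) (y : G) 1
    rw [if_neg (FiveColumn.not_conj (by rw [orderOf_one, hy11]; norm_num))] at h
    simp only [val_one, hyval, map_intCast] at h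
    exact_mod_cast h
  · obtain ⟨w, hw23, hw⟩ := FiveColumn.exists_w23 hG
    have h := hw 1 1 (by simp) (by simp)
    have h' := second_orth (G := G) 1 w
    rw [if_neg (FiveColumn.not_conj (by rw [orderOf_one, hw23]; norm_num))] at h'
    simp only [val_one] at h h'
    simp only [mul_self_div_self] at h
    simp only [mul_comm (((charDegree _ : ℕ) : ℤ) : ℂ)] at h'
    rw [h', mul_zero] at h
    exact_mod_cast h.symm
  · have h := second_orth (G := G) 1 (g ^ 5)
    rw [if_neg (FiveColumn.not_conj (by rw [orderOf_one, orderOf_pow, T.ord]; norm_num))] at h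
    simp only [val_one, T.val, map_intCast] at h
    exact_mod_cast h

end Cfsg.Agent.MTwentyFour.ByOrder.ThreeCase
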