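import Cfsg.Agent.Lib.Spor.MTwentyFourOrder.ThreeCase.Engine
import Cfsg.Agent.Lib.Spor.MTwentyFourOrder.FiveRowArith

/-!
The arithmetic of the case with automiser three at seven: lists of triples of a degree, a value at the element of
order five and a value at the involution, and the check that none completes the known members without a degree
twenty-three.
-/

set_option autoImplicit false
set_option maxRecDepth 100000

namespace Cfsg.Agent.MTwentyFour.ByOrder.ThreeCase

/-- the order of the group -/
def ordM : ℕ := 244823040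

/-- the data left open at the local stage -/
structure Case where
  C : ℕ
  z0 : ℤ
  z1 : ℤ
  z2 : ℤ
  z3 : ℤ
  e : ℤ
  f : ℤ

/-- a degree with the two values -/
abbrev Tr := ℕ × ℤ × ℤ

/-- the known members -/
def known (cs : Case) : List Tr :=
  [(1, 1, 1), (1771, 1, cs.z0), (2024, -1, cs.z1), (5544, -1, cs.z2), (5796, 1, cs.z3), (1035, 0, cs.e),
    (990, 0, cs.f), (990, 0, cs.f)]

/-- the sign at eleven -/
def s11 (d : ℕ) : ℤ := if d % 11 = 1 then 1 else if d % 11 = 10 then -1 else 0
/-- the signed weight at twenty-three, halved -/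
def c23 (d : ℕ) : ℤ := if d % 23 = 1 then 1 else if d % 23 = 12 then 1 else -1
/-- the multiplicity at twenty-three -/
def wt (d : ℕ) : ℤ := if d % 23 = 11 then 2 else if d % 23 = 12 then 2 else 1
/-- the codegree -/
def nd (d : ℕ) : ℤ := ((ordM / d : ℕ) : ℤ)

/-- the degrees in the block of twenty-three, ordinary -/
def xl : List ℕ := [22, 45, 231, 252, 528, 990, 1540, 3520, 3840, 5544, 10395, 12672]
/-- the degrees in the block of twenty-three, exceptional -/
def gl : List ℕ := [12, 264, 495, 540, 770, 1024, 1760, 2772, 3024, 6336, 9856, 11880]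
/-- the degrees outside that block and in the block of eleven -/
def yl : List ℕ :=
  [230, 276, 483, 736, 1035, 1242, 1288, 2760, 3312, 4830, 5796, 7360, 8832, 12420, 12880, 15456]

/-- the order of search in the block of twenty-three -/
def keys : List ℕ :=
  [45, 3840, 2772, 1760, 540, 10395, 3520, 6336, 12, 5544, 1024, 252, 3024, 9856, 11880, 495, 22, 990, 12672, 770,
    1540, 231, 528, 264]
/-- the order of search outside it -/
def keysY : List ℕ :=
  [1242, 1035, 15456, 5796, 12420, 4830, 7360, 8832, 3312, 2760, 12880, 483, 276, 230, 736, 1288]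

/-- the conditions on a value at the element of order five -/
def pok (d : ℕ) (f : ℤ) : Bool :=
  decide (f * f ≤ 60) && decide (((d : ℤ) - f) % 5 = 0) && (decide (d % 5 ≠ 0) || decide (f = 0)) &&
    decide (f ≤ FiveRow.mOf d) && decide (0 ≤ FiveRow.mOf d + 4 * f) && decide ((FiveRow.mOf d + 4 * f) % 5 = 0) &&
    decide ((((ordM / 60 : ℕ) : ℤ) * f) % (d : ℤ) = 0)

/-- the values at the element of order five -/
def popts (d : ℕ) : List ℤ := ((List.range 15).map fun i : ℕ => (i : ℤ) - 7).filter (pok d)

/-- the conditions on a value at the involution -/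
def zok (C d : ℕ) (z : ℤ) : Bool :=
  decide (z * z ≤ (C : ℤ)) && decide (((d : ℤ) - z) % 4 = 0) && decide ((FiveRow.mOf d - z) % 2 = 0) &&
    (decide (d % 5 ≠ 0) || decide ((FiveRow.mOf d - z) % 10 = 0)) &&
    decide (-FiveRow.mOf d ≤ z) && decide (z ≤ FiveRow.mOf d) &&
    decide ((((ordM / C : ℕ) : ℤ) * z) % (d : ℤ) = 0)

/-- the values at the involution -/
def zopts (C d : ℕ) : List ℤ :=
  ((List.range 64).map fun i : ℕ => ((d % 4 : ℕ) : ℤ) + 4 * ((i : ℤ) - 32)).filter (zok C d)

/-- the places for the first value -/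
def phiIts (c wgt : ℕ → ℤ) (l : List ℕ) : List It :=
  l.map fun d => ⟨(d, 0), popts d, c d, c d * nd d, wgt d, 0⟩

/-- the places for the second value -/
def zIts (C : ℕ) (c wgt : ℕ → ℤ) (p : List (ℕ × ℤ)) : List It :=
  p.map fun a => ⟨a, zopts C a.1, c a.1, c a.1 * nd a.1, wgt a.1, c a.1 * nd a.1 * a.2⟩

/-- a sum over triples -/
def sumT (F : Tr → ℤ) (L : List Tr) : ℤ := (L.map F).sum

/-- the triples with multiplicities -/
def expand (L : List Tr) : List Tr := L.flatMap fun x => List.replicate (wt x.1).toNat x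

/-- the rearrangement by the order of search -/
def arrange {β : Type} (key : β → ℕ) (ks : List ℕ) (l : List β) : List β :=
  ks.flatMap fun d => l.filter fun x => key x == d

/-- the last check, by the three inequalities of Cauchy and Schwarz -/
def final (cs : Case) (L : List Tr) : Bool :=
  let R := (ordM : ℤ) - sumT (fun x => (x.1 : ℤ) * x.1) L
  let P := 60 - sumT (fun x => x.2.1 * x.2.1) L
  let Z := (cs.C : ℤ) - sumT (fun x => x.2.2 * x.2.2) L
  let A := sumT (fun x => (x.1 : ℤ) * x.2.1) L
  let B := sumT (fun x => (x.1 : ℤ) * x.2.2) L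
  let D := sumT (fun x => x.2.1 * x.2.2) L
  decide (A * A ≤ R * P) && decide (B * B ≤ R * Z) && decide (D * D ≤ P * Z)

/-- the first inequality -/
def first (A : List Tr) (l : List ℕ) (fs : List ℤ) : Bool :=
  let R := (ordM : ℤ) - sumT (fun x => (x.1 : ℤ) * x.1) A - ((l.map fun d : ℕ => (d : ℤ) * d).sum)
  let P := 60 - sumT (fun x => x.2.1 * x.2.1) A - ((fs.map fun f : ℤ => f * f).sum)
  let S := sumT (fun x => (x.1 : ℤ) * x.2.1) A + ((List.zipWith (fun (d : ℕ) (f : ℤ) => (d : ℤ) * f) l fs).sum)
  decide (S * S ≤ R * P)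

/-- the block of eleven, given everything in that of twenty-three -/
def side11 (cs : Case) (A : List Tr) : Bool :=
  decide (sumT (fun x => s11 x.1 * s11 x.1) A ≤ 11) &&
    rowsGo s11 0 ordM (11 - sumT (fun x => s11 x.1 * s11 x.1) A).toNat yl (sumT (fun x => s11 x.1 * x.1) A)
      (A.map fun x => x.1 * x.1).sum fun r =>
      decide ((ordM - ((A.map fun x => x.1 * x.1).sum + (r.map fun d => d * d).sum)) % 64009 = 0) &&
        go 3600 1 (60 - sumT (fun x => x.2.1 * x.2.1) A)
          (prep 3600 1 (phiIts s11 (fun _ => 1) (arrange id keysY r))) none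
          (sumT (fun x => s11 x.1 * x.2.1) A) (sumT (fun x => s11 x.1 * nd x.1 * (x.2.1 * x.2.1)) A) 0 0 fun fs =>
          first A (arrange id keysY r) fs &&
            go 0 (60 * cs.C) ((cs.C : ℤ) - sumT (fun x => x.2.2 * x.2.2) A)
              (prep 0 (60 * cs.C) (zIts cs.C s11 (fun _ => 1) ((arrange id keysY r).zip fs))) none
              (sumT (fun x => s11 x.1 * x.2.2) A)
              (sumT (fun x => s11 x.1 * nd x.1 * (x.2.2 * x.2.2)) A - 11 * (cs.C : ℤ) * cs.C) 0
              (sumT (fun x => s11 x.1 * nd x.1 * (x.2.1 * x.2.2)) A) fun zs =>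
              final cs (A ++ (arrange id keysY r).zip (fs.zip zs))

/-- the block of twenty-three, for a list of degrees -/
def side23 (cs : Case) (l : List ℕ) (k : List Tr → Bool) : Bool :=
  go 3600 1 55 (prep 3600 1 (phiIts c23 wt l)) none 0 ((ordM : ℤ) + nd 5544) 0 0 fun fs =>
    go 0 (60 * cs.C) ((cs.C : ℤ) - sumT (fun x => x.2.2 * x.2.2) (known cs))
      (prep 0 (60 * cs.C) (zIts cs.C c23 wt (l.zip fs))) none (1 + cs.z2 + 2 * cs.f)
      ((ordM : ℤ) + nd 5544 * (cs.z2 * cs.z2) + 2 * nd 990 * (cs.f * cs.f)) 0 ((ordM : ℤ) - nd 5544 * cs.z2) fun zs =>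
      k (l.zip (fs.zip zs))

/-- what the squares of the known degrees leave -/
def room : ℕ := ordM - ([1, 1771, 2024, 5544, 5796, 1035, 990, 990].map fun d => d * d).sum

/-- the lists of degrees in the block of twenty-three -/
def rowsRun (k : List ℕ → Bool) : Bool :=
  rowsGo c23 2 room 7 xl 7525 0 fun r =>
    gl.any fun g => decide (7525 + (r.map fun d => c23 d * (d : ℤ)).sum + c23 g * (g : ℤ) = 0) &&
      decide ((r.map fun d => d * d).sum + 2 * (g * g) ≤ room) && k (arrange id keys (g :: r))

/-- the case with the smaller centraliser -/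
def caseA : Case := ⟨5760, 31, -16, 24, -24, 15, -30⟩
/-- the case of the Mathieu group -/
def caseB : Case := ⟨7680, 11, 24, 24, 36, 35, -10⟩

end Cfsg.Agent.MTwentyFour.ByOrder.ThreeCase
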