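import Mathlib

/-!
A bounded search for integer vectors with a linear condition, a quadratic and a further linear condition with
divisibility and sign, and a budget for the weighted sum of squares; and a search for sorted lists of degrees.
-/

set_option autoImplicit false

namespace Cfsg.Agent.MTwentyFour.ByOrder.ThreeCase

/-- a place: its kind, its candidates, the coefficient of the linear condition, of the quadratic one, the weight
and the coefficient of the further linear condition -/
structure It where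
  key : ℕ × ℤ
  opts : List ℤ
  c : ℤ
  qc : ℤ
  w : ℤ
  e : ℤ

/-- the gcd of a modulus and the coefficients -/
def gcdOf (f : It → ℤ) (M : ℕ) : List It → ℕ
  | [] => M
  | i :: is => Nat.gcd (f i).natAbs (gcdOf f M is)

/-- a lower bound for the weighted sum of squares -/
def minB : List It → ℤ
  | [] => 0
  | i :: is => (match i.opts with | [] => 0 | x :: xs => (xs.foldl (fun a y => min a (y * y)) (x * x))) * i.w + minB is

/-- an upper bound for a coefficient -/
def maxOf (f : It → ℤ) : List It → ℤ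
  | [] => 0
  | i :: is => max (f i) (maxOf f is)

/-- a place with the data of the places after it -/
structure St where
  it : It
  gq : ℤ
  gm : ℤ
  mn : ℤ
  pos : ℤ
  neg : ℤ
  n : ℤ

/-- the data of the places -/
def prep (mq md : ℕ) : List It → List St
  | [] => []
  | i :: is => ⟨i, (gcdOf It.qc mq (i :: is) : ℤ), (gcdOf It.e md (i :: is) : ℤ), minB (i :: is),
      maxOf It.qc (i :: is), maxOf (fun j => -j.qc) (i :: is), ((i :: is).length : ℤ)⟩ :: prep mq md is

/-- the candidates left for a place: the last one is forced by the linear condition -/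
def cand (l : ℤ) (s : St) : List St → List ℤ
  | [] => if s.it.opts.contains (-(s.it.c * l)) then [-(s.it.c * l)] else []
  | _ :: _ => s.it.opts

/-- the order between places of one kind -/
def tieOk (prev : Option ((ℕ × ℤ) × ℤ)) (key : ℕ × ℤ) (x : ℤ) : Bool :=
  match prev with
  | none => true
  | some (k, v) => !(decide (k.1 = key.1) && decide (k.2 = key.2)) || decide (v ≤ x)

/-- Is there a vector passing the test? -/
def go (mq md : ℕ) (bud : ℤ) : List St → Option ((ℕ × ℤ) × ℤ) → ℤ → ℤ → ℤ → ℤ → (List ℤ → Bool) → Bool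
  | [], _, l, q, b, mm, k =>
    decide (l = 0) && decide (q % (mq : ℤ) = 0) && decide (0 ≤ q) && decide (b ≤ bud) &&
      decide (mm % (md : ℤ) = 0) && decide (0 ≤ mm) && k []
  | s :: ss, prev, l, q, b, mm, k =>
    decide (b + s.mn ≤ bud) && decide (l * l ≤ s.n * (bud - b)) && decide (q % s.gq = 0) && decide (mm % s.gm = 0) &&
      decide (0 ≤ q + s.pos * (bud - b)) && (decide (mq ≠ 0) || decide (q - s.neg * (bud - b) ≤ 0)) &&
      (cand l s ss).any fun x => tieOk prev s.it.key x &&
        go mq md bud ss (some (s.it.key, x)) (l + s.it.c * x) (q + s.it.qc * (x * x)) (b + s.it.w * (x * x))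
          (mm + s.it.e * x) fun xs => k (x :: xs)

/-- the linear sum -/
def sL (p : List (It × ℤ)) : ℤ := (p.map fun a => a.1.c * a.2).sum
/-- the quadratic sum -/
def sQ (p : List (It × ℤ)) : ℤ := (p.map fun a => a.1.qc * (a.2 * a.2)).sum
/-- the weighted sum of squares -/
def sB (p : List (It × ℤ)) : ℤ := (p.map fun a => a.1.w * (a.2 * a.2)).sum
/-- the second linear sum -/
def sM (p : List (It × ℤ)) : ℤ := (p.map fun a => a.1.e * a.2).sum

theorem gcdOf_dvd (f : It → ℤ) (M : ℕ) : ∀ is : List It,
    (gcdOf f M is : ℤ) ∣ (M : ℤ) ∧ ∀ i ∈ is, (gcdOf f M is : ℤ) ∣ f i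
  | [] => ⟨dvd_rfl, fun i hi => absurd hi (List.not_mem_nil)⟩
  | i :: is => by
    obtain ⟨h1, h2⟩ := gcdOf_dvd f M is
    have hd : (gcdOf f M (i :: is) : ℤ) ∣ (gcdOf f M is : ℤ) :=
      Int.natCast_dvd_natCast.2 (Nat.gcd_dvd_right _ _)
    refine ⟨hd.trans h1, fun j hj => ?_⟩
    rcases List.mem_cons.1 hj with rfl | hj
    · exact (Int.natCast_dvd).2 (Nat.gcd_dvd_left _ _)
    · exact hd.trans (h2 j hj)

theorem le_maxOf (f : It → ℤ) : ∀ is : List It, 0 ≤ maxOf f is ∧ ∀ i ∈ is, f i ≤ maxOf f is
  | [] => ⟨le_rfl, fun i hi => absurd hi (List.not_mem_nil)⟩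
  | i :: is => by
    obtain ⟨h1, h2⟩ := le_maxOf f is
    refine ⟨h1.trans (le_max_right _ _), fun j hj => ?_⟩
    rcases List.mem_cons.1 hj with rfl | hj
    · exact le_max_left _ _
    · exact (h2 j hj).trans (le_max_right _ _)

theorem foldl_min : ∀ (xs : List ℤ) (a : ℤ), xs.foldl (fun a y => min a (y * y)) a ≤ a ∧
    ∀ y ∈ xs, xs.foldl (fun a y => min a (y * y)) a ≤ y * y
  | [], a => ⟨le_rfl, fun y hy => absurd hy (List.not_mem_nil)⟩
  | x :: xs, a => by
    obtain ⟨h1, h2⟩ := foldl_min xs (min a (x * x))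
    refine ⟨h1.trans (min_le_left _ _), fun y hy => ?_⟩
    rcases List.mem_cons.1 hy with rfl | hy
    · exact h1.trans (min_le_right _ _)
    · exact h2 y hy

theorem minB_le : ∀ p : List (It × ℤ), (∀ a ∈ p, a.2 ∈ a.1.opts ∧ a.1.c * a.1.c = 1 ∧ 1 ≤ a.1.w) →
    minB (p.map Prod.fst) ≤ sB p
  | [], _ => le_rfl
  | (i, x) :: p, h => by
    obtain ⟨hx, -, hw⟩ := h (i, x) (by simp)
    have h' := minB_le p fun a ha => h a (List.mem_cons_of_mem _ ha)
    simp only [List.map_cons, minB, sB, List.sum_cons] at h' ⊢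
    refine add_le_add ?_ h'
    rw [mul_comm i.w]
    refine mul_le_mul_of_nonneg_right ?_ (by linarith)
    rcases ho : i.opts with _ | ⟨o, os⟩
    · exact mul_self_nonneg x
    · obtain ⟨h1, h2⟩ := foldl_min os (o * o)
      rcases List.mem_cons.1 (ho ▸ hx) with rfl | hm
      · exact h1
      · exact h2 x hm

theorem sB_nonneg : ∀ p : List (It × ℤ), (∀ a ∈ p, a.2 ∈ a.1.opts ∧ a.1.c * a.1.c = 1 ∧ 1 ≤ a.1.w) → 0 ≤ sB p :=
  fun p h => List.sum_nonneg fun v hv => by
    obtain ⟨a, ha, rfl⟩ := List.mem_map.1 hv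
    exact mul_nonneg (by linarith [(h a ha).2.2]) (mul_self_nonneg _)

theorem sL_sq : ∀ p : List (It × ℤ), (∀ a ∈ p, a.2 ∈ a.1.opts ∧ a.1.c * a.1.c = 1 ∧ 1 ≤ a.1.w) →
    sL p * sL p ≤ (p.length : ℤ) * sB p
  | [], _ => le_rfl
  | (i, x) :: p, h => by
    obtain ⟨-, hc, hw⟩ := h (i, x) (by simp)
    have h' : ∀ a ∈ p, a.2 ∈ a.1.opts ∧ a.1.c * a.1.c = 1 ∧ 1 ≤ a.1.w := fun a ha => h a (List.mem_cons_of_mem _ ha)
    have h1 := sL_sq p h'
    have h2 := sB_nonneg p h'
    simp only [sL, sB, List.map_cons, List.sum_cons, List.length_cons, Nat.cast_succ] at h1 h2 ⊢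
    generalize (List.map (fun a : It × ℤ => a.1.c * a.2) p).sum = S at h1 ⊢
    generalize (List.map (fun a : It × ℤ => a.1.w * (a.2 * a.2)) p).sum = R at h1 h2 ⊢
    have hA : i.c * x * (i.c * x) ≤ i.w * (x * x) := by
      calc i.c * x * (i.c * x) = i.c * i.c * (x * x) := by ring
        _ ≤ i.w * (x * x) := mul_le_mul_of_nonneg_right (hc ▸ hw) (mul_self_nonneg x)
    generalize i.w * (x * x) = A at hA ⊢
    generalize i.c * x = a at hA ⊢
    generalize hn : (p.length : ℤ) = n at h1 ⊢
    have hn0 : 0 ≤ n := hn ▸ Int.natCast_nonneg _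
    rcases eq_or_lt_of_le hn0 with rfl | hn1
    · have hS : S = 0 := mul_self_eq_zero.1 (le_antisymm (by linarith) (mul_self_nonneg S))
      subst hS
      linarith
    · have h4 : n * ((a + S) * (a + S)) ≤ n * ((n + 1) * (A + R)) := by
        have := mul_le_mul_of_nonneg_left hA hn0
        have := mul_le_mul_of_nonneg_left this (show (0 : ℤ) ≤ n + 1 by linarith)
        nlinarith [mul_self_nonneg (n * a - S), h1]
      exact le_of_mul_le_mul_left h4 hn1

theorem sum_le_bound (f : It → ℤ) {m : ℤ} (hm : 0 ≤ m) : ∀ p : List (It × ℤ),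
    (∀ a ∈ p, a.2 ∈ a.1.opts ∧ a.1.c * a.1.c = 1 ∧ 1 ≤ a.1.w) → (∀ a ∈ p, f a.1 ≤ m) →
      (p.map fun a => f a.1 * (a.2 * a.2)).sum ≤ m * sB p
  | [], _, _ => by simp [sB]
  | (i, x) :: p, h, hf => by
    obtain ⟨-, -, hw⟩ := h (i, x) (by simp)
    have h1 := sum_le_bound f hm p (fun a ha => h a (List.mem_cons_of_mem _ ha))
      fun a ha => hf a (List.mem_cons_of_mem _ ha)
    have hi : f i ≤ m := hf (i, x) (by simp)
    simp only [sB, List.map_cons, List.sum_cons, mul_add] at h1 ⊢
    refine add_le_add ?_ h1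
    calc f i * (x * x) ≤ m * (x * x) := mul_le_mul_of_nonneg_right hi (mul_self_nonneg x)
      _ = m * (1 * (x * x)) := by rw [one_mul]
      _ ≤ m * (i.w * (x * x)) := mul_le_mul_of_nonneg_left (mul_le_mul_of_nonneg_right hw (mul_self_nonneg x)) hm

/-- The search finds every vector. -/
theorem go_sound (mq md : ℕ) (bud : ℤ) : ∀ (p : List (It × ℤ)) (prev : Option ((ℕ × ℤ) × ℤ)) (l q b mm : ℤ)
    (k : List ℤ → Bool),
    (∀ a ∈ p, a.2 ∈ a.1.opts ∧ a.1.c * a.1.c = 1 ∧ 1 ≤ a.1.w) →
    p.Pairwise (fun a b => a.1.key = b.1.key → a.2 ≤ b.2) →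
    (∀ key v, prev = some (key, v) → ∀ a ∈ p, key = a.1.key → v ≤ a.2) →
    l + sL p = 0 → (q + sQ p) % (mq : ℤ) = 0 → 0 ≤ q + sQ p → b + sB p ≤ bud →
    (mm + sM p) % (md : ℤ) = 0 → 0 ≤ mm + sM p → k (p.map Prod.snd) = true →
    go mq md bud (prep mq md (p.map Prod.fst)) prev l q b mm k = true
  | [], _, l, q, b, mm, k, _, _, _, hl, hq, hq0, hb, hm, hm0, hk => by
    simp only [sL, sQ, sB, sM, List.map_nil, List.sum_nil, add_zero] at hl hq hq0 hb hm hm0 hk
    simp only [List.map_nil, prep, go, Bool.and_eq_true, decide_eq_true_eq]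
    exact ⟨⟨⟨⟨⟨⟨hl, hq⟩, hq0⟩, hb⟩, hm⟩, hm0⟩, hk⟩
  | (i, x) :: p, prev, l, q, b, mm, k, h, hpw, hprev, hl, hq, hq0, hb, hm, hm0, hk => by
    set P := (i, x) :: p with hP
    have hfst : P.map Prod.fst = i :: p.map Prod.fst := rfl
    rw [hfst]
    simp only [prep, go, Bool.and_eq_true, Bool.or_eq_true, decide_eq_true_eq, List.any_eq_true]
    have hR : sB P ≤ bud - b := by linarith
    have hmn := minB_le P h
    rw [hfst] at hmn
    obtain ⟨hgq, hgq'⟩ := gcdOf_dvd It.qc mq (i :: p.map Prod.fst)
    obtain ⟨hgm, hgm'⟩ := gcdOf_dvd It.e md (i :: p.map Prod.fst)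
    have hin : ∀ a ∈ P, a.1 ∈ i :: p.map Prod.fst := fun a ha => hfst ▸ List.mem_map_of_mem ha
    obtain ⟨hpos, hpos'⟩ := le_maxOf It.qc (i :: p.map Prod.fst)
    obtain ⟨hneg, hneg'⟩ := le_maxOf (fun j => -j.qc) (i :: p.map Prod.fst)
    refine ⟨⟨⟨⟨⟨⟨?_, ?_⟩, ?_⟩, ?_⟩, ?_⟩, ?_⟩, x, ?_, ?_⟩
    · linarith
    · have h1 : l * l = sL P * sL P := by rw [show l = -sL P by linarith]; ring
      have h2 : ((i :: p.map Prod.fst).length : ℤ) = (P.length : ℤ) := by simp [hP]
      rw [h1, h2]
      exact (sL_sq P h).trans (mul_le_mul_of_nonneg_left hR (Int.natCast_nonneg _))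
    · have h1 : (gcdOf It.qc mq (i :: p.map Prod.fst) : ℤ) ∣ sQ P := List.dvd_sum fun v hv => by
        obtain ⟨a, ha, rfl⟩ := List.mem_map.1 hv
        exact dvd_mul_of_dvd_left (hgq' _ (hin a ha)) _
      exact Int.emod_eq_zero_of_dvd ((dvd_add_left h1).1 (hgq.trans (Int.dvd_of_emod_eq_zero hq)))
    · have h1 : (gcdOf It.e md (i :: p.map Prod.fst) : ℤ) ∣ sM P := List.dvd_sum fun v hv => by
        obtain ⟨a, ha, rfl⟩ := List.mem_map.1 hv
        exact dvd_mul_of_dvd_left (hgm' _ (hin a ha)) _
      exact Int.emod_eq_zero_of_dvd ((dvd_add_left h1).1 (hgm.trans (Int.dvd_of_emod_eq_zero hm)))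
    · have h1 : sQ P ≤ maxOf It.qc (i :: p.map Prod.fst) * sB P :=
        sum_le_bound It.qc hpos P h fun a ha => hpos' _ (hin a ha)
      have h2 := mul_le_mul_of_nonneg_left hR hpos
      linarith
    · rcases eq_or_ne mq 0 with h0 | h0
      · right
        rw [h0, Nat.cast_zero, Int.emod_zero] at hq
        have h1 := sum_le_bound (fun j => -j.qc) hneg P h fun a ha => hneg' _ (hin a ha)
        have h2 : (P.map fun a : It × ℤ => -a.1.qc * (a.2 * a.2)).sum = -sQ P := by
          rw [sQ, List.sum_neg, List.map_map]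
          simp [Function.comp_def]
        rw [h2] at h1
        have h3 := mul_le_mul_of_nonneg_left hR hneg
        linarith
      · exact Or.inl h0
    · obtain ⟨hx, hc, -⟩ := h (i, x) (by simp [hP])
      rcases p with _ | ⟨a, p'⟩
      · simp only [List.map_nil, prep, cand]
        have : -(i.c * l) = x := by
          have : l = -(i.c * x) := by simp [hP, sL] at hl; linarith
          rw [this]; linear_combination x * hc
        rw [this, if_pos (List.contains_iff_mem.2 hx)]
        exact List.mem_singleton_self x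
      · exact hx
    · obtain ⟨hpw1, hpw2⟩ := List.pairwise_cons.1 hpw
      refine ⟨?_, go_sound mq md bud p _ _ _ _ _ _ (fun a ha => h a (List.mem_cons_of_mem _ ha)) hpw2 ?_ ?_ ?_ ?_ ?_
        ?_ ?_ hk⟩
      · cases hprev' : prev with
        | none => rfl
        | some kv =>
          obtain ⟨key, v⟩ := kv
          simp only [tieOk, Bool.or_eq_true, Bool.not_eq_true', Bool.and_eq_false_iff, decide_eq_false_iff_not,
            decide_eq_true_eq]
          by_cases he : key = i.key
          · exact Or.inr (hprev key v hprev' (i, x) (by simp [hP]) he)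
          · exact Or.inl (not_and_or.1 fun hh => he (Prod.ext hh.1 hh.2))
      · intro key v hs a ha he
        obtain ⟨rfl, rfl⟩ := Prod.mk.injEq _ _ _ _ ▸ Option.some.inj hs
        exact hpw1 a ha he
      all_goals simp only [hP, sL, sQ, sB, sM, List.map_cons, List.sum_cons] at hl hq hq0 hb hm hm0 ⊢
      · linarith
      · rwa [add_assoc]
      · linarith
      · linarith
      · rwa [add_assoc]
      · linarith

/-- the sorted lists: one step -/
def sufAny (ok : ℕ → Bool) (f : ℕ → List ℕ → Bool) : List ℕ → Bool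
  | [] => false
  | a :: as => ok a && (f a (a :: as) || sufAny ok f as)

/-- Is there a non-decreasing list of degrees passing the test, with bounded sum of squares? The slack counts
further degrees allowed after the list; with none the sum of the signed degrees has to vanish. -/
def rowsGo (s : ℕ → ℤ) (slack : ℕ) (B : ℕ) : ℕ → List ℕ → ℤ → ℕ → (List ℕ → Bool) → Bool
  | 0, _, t, used, k => decide (used ≤ B) && (decide (0 < slack) || decide (t = 0)) && k []
  | n + 1, xs, t, used, k =>
    decide (t * t ≤ ((n + 1 + slack : ℕ) : ℤ) * ((B - used : ℕ) : ℤ)) &&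
      sufAny (fun a => decide (used + (n + 1) * (a * a) ≤ B))
        (fun a rest => rowsGo s slack B n rest (t + s a * (a : ℤ)) (used + a * a) fun l => k (a :: l)) xs

theorem sufAny_sound (ok : ℕ → Bool) (f : ℕ → List ℕ → Bool) {b : ℕ} : ∀ xs : List ℕ, xs.Pairwise (· ≤ ·) →
    b ∈ xs → (∀ a ∈ xs, a ≤ b → ok a = true) →
    (∀ rest, b :: rest <:+ xs → f b (b :: rest) = true) → sufAny ok f xs = true
  | [], _, hb, _, _ => absurd hb (List.not_mem_nil)
  | a :: as, hs, hb, hok, hf => by
    obtain ⟨h1, h2⟩ := List.pairwise_cons.1 hs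
    have hle : a ≤ b := by
      rcases List.mem_cons.1 hb with rfl | hb
      exacts [le_rfl, h1 b hb]
    simp only [sufAny, Bool.and_eq_true, Bool.or_eq_true]
    refine ⟨hok a (by simp) hle, ?_⟩
    rcases eq_or_ne b a with rfl | hne
    · exact Or.inl (hf as (List.suffix_refl _))
    · exact Or.inr (sufAny_sound ok f as h2 ((List.mem_cons.1 hb).resolve_left hne)
        (fun c hc => hok c (List.mem_cons_of_mem _ hc)) fun rest hr => hf rest (hr.trans (List.suffix_cons _ _)))

/-- The search for sorted lists finds every one. -/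
theorem rowsGo_sound (s : ℕ → ℤ) (slack B : ℕ) : ∀ (l xs : List ℕ) (t : ℤ) (used : ℕ) (k : List ℕ → Bool),
    xs.Pairwise (· ≤ ·) → (∀ a ∈ l, a ∈ xs) → l.Pairwise (· ≤ ·) →
    used + (l.map fun a => a * a).sum ≤ B →
    (t + (l.map fun a => s a * (a : ℤ)).sum) * (t + (l.map fun a => s a * (a : ℤ)).sum) ≤
      (slack : ℤ) * ((B - (used + (l.map fun a => a * a).sum) : ℕ) : ℤ) →
    (∀ a ∈ xs, s a * s a ≤ 1) →
    k l = true → rowsGo s slack B l.length xs t used k = true
  | [], _, t, used, k, _, _, _, hB, ht, _, hk => by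
    simp only [List.map_nil, List.sum_nil, add_zero] at hB ht
    simp only [List.length_nil, rowsGo, Bool.and_eq_true, Bool.or_eq_true, decide_eq_true_eq]
    refine ⟨⟨hB, ?_⟩, hk⟩
    rcases Nat.eq_zero_or_pos slack with h0 | h0
    · rw [h0, Nat.cast_zero, zero_mul] at ht
      exact Or.inr (mul_self_eq_zero.1 (le_antisymm ht (mul_self_nonneg t)))
    · exact Or.inl h0
  | b :: l, xs, t, used, k, hxs, hmem, hl, hB, ht, hs, hk => by
    obtain ⟨hl1, hl2⟩ := List.pairwise_cons.1 hl
    simp only [List.map_cons, List.sum_cons] at hB ht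
    simp only [List.length_cons, rowsGo, Bool.and_eq_true, decide_eq_true_eq]
    refine ⟨?_, sufAny_sound _ _ xs hxs (hmem b (by simp)) ?_ fun rest hr => ?_⟩
    · have key : ∀ m : List ℕ, (∀ a ∈ m, s a * s a ≤ 1) → (m.map fun a => s a * (a : ℤ)).sum *
          (m.map fun a => s a * (a : ℤ)).sum ≤ (m.length : ℤ) * (Nat.cast (List.sum (List.map (fun a : ℕ => a * a) m)) : ℤ) := by
        intro m hm
        induction m with
        | nil => simp
        | cons a m ih =>
          have h1 := ih fun c hc => hm c (List.mem_cons_of_mem _ hc)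
          have h2 := mul_le_mul_of_nonneg_right (hm a (by simp)) (mul_self_nonneg (a : ℤ))
          have h3 : s a * (a : ℤ) * (s a * (a : ℤ)) ≤ (a : ℤ) * (a : ℤ) := by linarith
          simp only [List.map_cons, List.sum_cons, List.length_cons, Nat.cast_succ, Nat.cast_add, Nat.cast_mul] at h1 ⊢
          generalize (List.map (fun a => s a * (a : ℤ)) m).sum = S at h1 ⊢
          have hR0 : (0 : ℤ) ≤ (Nat.cast (List.sum (List.map (fun a : ℕ => a * a) m)) : ℤ) := Int.natCast_nonneg _
          generalize (Nat.cast (List.sum (List.map (fun a : ℕ => a * a) m)) : ℤ) = R at h1 hR0 ⊢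
          generalize s a * (a : ℤ) = x at h3 ⊢
          generalize (a : ℤ) * (a : ℤ) = A at h3 ⊢
          rcases Nat.eq_zero_or_pos m.length with h0 | h0
          · rw [h0] at h1 ⊢
            have hS : S = 0 := mul_self_eq_zero.1 (le_antisymm (by simpa using h1) (mul_self_nonneg S))
            have hm' := List.length_eq_zero_iff.1 h0
            subst hS
            simp only [Nat.cast_zero, zero_add, one_mul, add_zero]
            linarith
          · generalize hn : (m.length : ℤ) = n at h1 ⊢
            have hn1 : 0 < n := by rw [← hn]; exact_mod_cast h0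
            refine le_of_mul_le_mul_left ?_ hn1
            have := mul_le_mul_of_nonneg_left h3 (show (0 : ℤ) ≤ n * (n + 1) by positivity)
            nlinarith [mul_self_nonneg (n * x - S), h1]
      have h1 := key (b :: l) fun a ha => hs a (hmem a ha)
      simp only [List.map_cons, List.sum_cons, List.length_cons] at h1
      generalize s b * (b : ℤ) + (List.map (fun a => s a * (a : ℤ)) l).sum = S at h1 ht
      generalize b * b + (List.map (fun a => a * a) l).sum = W at h1 hB ht
      have h3 : ((B - used : ℕ) : ℤ) = ((B - (used + W) : ℕ) : ℤ) + (W : ℤ) := by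
        rw [← Nat.cast_add]; congr 1; omega
      rw [h3]
      push_cast at h1 ⊢
      have hR0 : (0 : ℤ) ≤ ((B - (used + W) : ℕ) : ℤ) := Int.natCast_nonneg _
      generalize ((B - (used + W) : ℕ) : ℤ) = R at ht hR0 ⊢
      rcases Nat.eq_zero_or_pos slack with h0 | h0
      · subst h0
        simp only [Nat.cast_zero, zero_mul] at ht
        have h5 := mul_self_eq_zero.1 (le_antisymm ht (mul_self_nonneg (t + S)))
        have h6 : t = -S := by linarith
        subst h6
        nlinarith
      · have hsl : (0 : ℤ) < slack := by exact_mod_cast h0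
        generalize (slack : ℤ) = u at ht hsl ⊢
        generalize hn : (l.length : ℤ) + 1 = n at h1 ⊢
        have hn0 : 0 < n := by rw [← hn]; positivity
        refine le_of_mul_le_mul_left ?_ (mul_pos hn0 hsl)
        nlinarith [mul_self_nonneg (u * S + n * (t + S)), mul_le_mul_of_nonneg_left h1 (mul_nonneg hsl.le (hn0.le.trans (le_add_of_nonneg_right hsl.le))), mul_le_mul_of_nonneg_left ht (mul_nonneg hn0.le (add_nonneg hn0.le hsl.le))]
    · intro a _ hab
      simp only [decide_eq_true_eq]
      have h1 : ∀ m : List ℕ, (∀ c ∈ m, a ≤ c) → m.length * (a * a) ≤ (m.map fun c => c * c).sum := fun m hm => by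
        induction m with
        | nil => simp
        | cons c m ih =>
          simp only [List.length_cons, List.map_cons, List.sum_cons, Nat.succ_mul]
          have := ih fun e he => hm e (List.mem_cons_of_mem _ he)
          have := Nat.mul_le_mul (hm c (by simp)) (hm c (by simp))
          omega
      have := h1 (b :: l) fun c hc => by
        rcases List.mem_cons.1 hc with rfl | hc
        exacts [hab, hab.trans (hl1 c hc)]
      simp only [List.length_cons, List.map_cons, List.sum_cons] at this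
      omega
    · have hrest : ∀ c ∈ l, c ∈ b :: rest := by
        intro c hc
        obtain ⟨pre, rfl⟩ := hr
        rcases List.mem_append.1 (hmem c (List.mem_cons_of_mem _ hc)) with h | h
        · have h2 := (List.pairwise_append.1 hxs).2.2 c h b (by simp)
          exact (le_antisymm h2 (hl1 c hc)) ▸ List.mem_cons_self
        · exact h
      refine rowsGo_sound s slack B l (b :: rest) _ _ _ (hxs.sublist hr.sublist) hrest hl2 (by linarith) ?_
        (fun a ha => hs a (hr.subset ha)) hk
      rw [add_assoc, add_assoc]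
      exact ht

end Cfsg.Agent.MTwentyFour.ByOrder.ThreeCase
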