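import Cfsg.Agent.Lib.Spor.MTwentyFourOrder.ThreeCase.Check
import Cfsg.Agent.Lib.Spor.MTwentyFourOrder.SevenRowArith

/-!
The numerical conditions at five and seven in the case with automiser three: two possibilities are left.
-/

set_option autoImplicit false
set_option maxRecDepth 100000
set_option maxHeartbeats 4000000

namespace Cfsg.Agent.MTwentyFour.ByOrder.ThreeCase

/-- the conditions on the two centraliser indices alone -/
def okK (k k7 : ℕ) : Bool :=
  decide ((120960 * k7 * 2025) % (25 * (k * k)) = 0) && decide ((120960 * k * 2023) % (49 * (k7 * k7)) = 0)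

/-- the conditions from the value at the involution of the shared member -/
def okB (k k7 C : ℕ) (b : ℤ) : Bool :=
  decide (((120960 * k7 : ℕ) : ℤ) * (2024 - b) % ((5 * k * C : ℕ) : ℤ) = 0) &&
    decide (((120960 * k : ℕ) : ℤ) * (2024 - b) % ((7 * k7 * C : ℕ) : ℤ) = 0)

/-- the square of the number of inverters at five -/
def okSq (k C : ℕ) (a b c d : ℤ) : Bool :=
  (List.range (k + 1)).any fun x : ℕ =>
    decide ((5 : ℤ) * ((x : ℤ) * x) * ((ordM : ℤ) * ordM) =
      (k : ℤ) * (((ordM / C : ℕ) : ℤ) * ((ordM / C : ℕ) : ℤ)) *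
        ((ordM : ℤ) + nd 1771 * (a * a) - nd 2024 * (b * b) - nd 5544 * (c * c) + nd 5796 * (d * d)))

/-- the conditions at seven -/
def okSeven (C : ℕ) (b e f : ℤ) (sq : ℤ) : Bool :=
  SevenRow.zok C 990 f && decide (sq + e * e + 2 * (f * f) ≤ (C : ℤ)) &&
    decide ((ordM : ℤ) - nd 1035 * (e * e) + nd 2024 * (b * b) - nd 990 * (f * f) = 0)

/-- the possibilities left -/
def localRun : List (ℕ × Case) :=
  ([12, 192].flatMap fun k => ([6, 48, 384].filter (okK k)).flatMap fun k7 =>
    FiveRow.cents.flatMap fun C => ((FiveRow.zlist C (-2024)).filter (okB k k7 C)).flatMap fun b =>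
      (FiveRow.zlist C (-5544)).flatMap fun c => (FiveRow.zlist C 1771).flatMap fun a =>
        let d := -(1 + a - b - c)
        if FiveRow.zok C 5796 d && decide (1 + a * a + b * b + c * c + d * d ≤ (C : ℤ)) && okSq k C a b c d then
          ((SevenRow.zlist C 1035).filter fun e =>
            okSeven C b e (1 - e + b) (1 + a * a + b * b + c * c + d * d)).map fun e =>
              (k, (⟨C, a, b, c, d, e, 1 - e + b⟩ : Case))
        else [])

/-- the tuple of a case -/
def tup (p : ℕ × Case) : ℕ × ℕ × List ℤ := (p.1, p.2.C, [p.2.z0, p.2.z1, p.2.z2, p.2.z3, p.2.e, p.2.f])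

theorem tup_inj {p q : ℕ × Case} (h : tup p = tup q) : p = q := by
  obtain ⟨k, C, a, b, c, d, e, f⟩ := p
  obtain ⟨k', C', a', b', c', d', e', f'⟩ := q
  simp only [tup, Prod.mk.injEq, List.cons.injEq, and_true] at h
  obtain ⟨rfl, rfl, rfl, rfl, rfl, rfl, rfl, rfl⟩ := h
  rfl

/-- Only two possibilities are left. -/
theorem local_table : ∀ p ∈ localRun.map tup, p = tup (12, caseA) ∨ p = tup (12, caseB) := by
  decide +kernel

theorem local_cases {p : ℕ × Case} (h : p ∈ localRun) : p = (12, caseA) ∨ p = (12, caseB) :=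
  (local_table _ (List.mem_map_of_mem h)).imp tup_inj tup_inj

end Cfsg.Agent.MTwentyFour.ByOrder.ThreeCase
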