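import Cfsg.Agent.Lib.Spor.MTwentyFourOrder.FiveCol
import Cfsg.Agent.Lib.Spor.MTwentyFourOrder.SevenLocal
import Cfsg.Agent.Lib.Spor.MTwentyFourOrder.SectionPairs
import Cfsg.Agent.Lib.Spor.MTwentyFourOrder.ThreeCase.LocalTable

/-!
A simple group of the order of the Mathieu group of degree twenty-four with automiser three at seven: the principal
blocks of five and seven share the character of degree 2024, and two sets of local data are left.
-/

set_option autoImplicit false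
set_option linter.unusedSectionVars false
set_option maxRecDepth 100000
set_option maxHeartbeats 1000000

namespace Cfsg.Agent.MTwentyFour.ByOrder.ThreeCase

open Cfsg Cfsg.Agent.Char Cfsg.Agent.Small.Order459648 Cfsg.Agent.Char.PrimeSylowCount
open Cfsg.Agent.MTwelve.OrderFront (val_one)
open Cfsg.Agent.MTwentyFour.ByOrder.Ten (TCol mEl)
open Cfsg.Agent.MTwentyFour.ByOrder.FiveRow (FiveData rowA rowB ten_values mOf_eq)
open Cfsg.Agent.MTwentyFour.ByOrder.FiveColumn (FCol)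
open Cfsg.Agent.MTwentyFour.ByOrder.SevenRow (SevenData zok_of_col)
open scoped ComplexConjugate
open scoped _root_.Classical

universe u

variable {G : Type u} [Group G] [Fintype G]

local instance fact_fiveThreeCase : Fact (Nat.Prime 5) := ⟨by norm_num⟩
local instance fact_sevenThreeCase : Fact (Nat.Prime 7) := ⟨by norm_num⟩

/-- The relation of the principal block of five, summed over the section of an element of order seven: the two
principal blocks share a member other than the trivial one. -/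
theorem exists_shared {g : G} {Q5 : Sylow 5 G} {k : ℕ} {M5 : Ideal AlgInt} {c : Fin 4 → IrrCharacter G}
    {r : List ℤ} (D : FiveData g Q5 k M5 c r) {Q7 : Sylow 7 G} {k7 : ℕ} {M7 : Ideal AlgInt}
    (hQ : Nat.card Q7 = 7) (hC : Nat.card (Subgroup.centralizer ((Q7 : Subgroup G) : Set G)) = 7 * k7)
    (hM : IsPModular 7 M7) (hk : ¬ 5 ∣ k7) : ∃ i, c i ∈ principalBlock M7 G := by
  by_contra hne
  rw [not_exists] at hne
  obtain ⟨y, hy⟩ := SmallOrderGraph.nonOne_nonempty Q7 hQ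
  have hy1 : (y : G) ≠ 1 := mem_nonOne.1 hy
  have hf := frobSylow_of_prime hQ
  have hreg : ∀ w ∈ Sections.regs 7 (y : G), ¬ 5 ∣ orderOf ((y : G) * (w : G)) :=
    Sections.regular_of_no_mixed hQ y.2 hy1 (by norm_num) (by norm_num) fun g hg =>
      hk (Sections.dvd_of_mixed hQ hC (by norm_num) (by norm_num) hg)
  have h0 := Finset.sum_eq_zero fun w hw => D.rel _ (hreg w hw)
  rw [Finset.sum_add_distrib, Finset.sum_comm, Finset.sum_eq_zero (s := (Finset.univ : Finset (Fin 4))) fun i _ => by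
    rw [← Finset.mul_sum, Sections.sum_regs hM hf y.2 hy1, if_neg (hne i), mul_zero, mul_zero],
    add_zero, Finset.sum_const, nsmul_eq_mul, mul_one, Nat.cast_eq_zero] at h0
  exact (Finset.card_pos.2 ⟨1, Sections.one_mem_regs (p := 7) (y : G)⟩).ne' h0

/-- The degrees of the named members in the row of the Mathieu group. -/
theorem deg_rowA {g : G} {Q5 : Sylow 5 G} {k : ℕ} {M5 : Ideal AlgInt} {c : Fin 4 → IrrCharacter G}
    (D : FiveData g Q5 k M5 c rowA) :
    charDegree (c 0 : G → ℂ) = 1771 ∧ charDegree (c 1 : G → ℂ) = 2024 ∧ charDegree (c 2 : G → ℂ) = 5544 ∧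
      charDegree (c 3 : G → ℂ) = 5796 := by
  have h := D.row
  simp [rowA, List.ofFn_succ] at h
  obtain ⟨h0, h1, h2, h3⟩ := h
  refine ⟨?_, ?_, ?_, ?_⟩
  · split_ifs at h0 <;> omega
  · split_ifs at h1 <;> omega
  · split_ifs at h2 <;> omega
  · split_ifs at h3 <;> omega

/-- With automiser three at seven the row is that of the Mathieu group and shares the member of degree 2024. -/
theorem shared {g : G} {Q5 : Sylow 5 G} {k : ℕ} {M5 : Ideal AlgInt} {c : Fin 4 → IrrCharacter G}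
    {r : List ℤ} (hr : r = rowA ∨ r = rowB) (D : FiveData g Q5 k M5 c r) {Q7 : Sylow 7 G} {k7 : ℕ}
    {M7 : Ideal AlgInt} {c₁ c₂ θ₁ θ₂ : IrrCharacter G} (S : SevenData Q7 k7 M7 c₁ c₂ θ₁ θ₂) (hk : ¬ 5 ∣ k7) :
    r = rowA ∧ c 1 = c₂ := by
  obtain ⟨i, hi⟩ := exists_shared D S.card S.cent S.modular hk
  have hdeg : charDegree (c i : G → ℂ) = 1035 ∨ charDegree (c i : G → ℂ) = 990 ∨
      (charDegree (c i : G → ℂ) = 2024 ∧ c i = c₂) := by
    rcases (S.mem_iff _).1 hi with h | h | h | h | h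
    · exact absurd h (D.ne_one i)
    · exact Or.inl (h ▸ S.deg₁)
    · exact Or.inr (Or.inr ⟨h ▸ S.deg₂, h⟩)
    · exact Or.inr (Or.inl (h ▸ S.deg₃))
    · exact Or.inr (Or.inl (h ▸ S.deg₄))
  rcases hr with rfl | rfl
  · obtain ⟨h0, h1, h2, h3⟩ := deg_rowA D
    refine ⟨rfl, ?_⟩
    fin_cases i <;> simp [h0, h1, h2, h3] at hdeg
    exact hdeg
  · exfalso
    have h := D.row
    simp [rowB, List.ofFn_succ] at h
    obtain ⟨h0, h1, h2, h3⟩ := h
    fin_cases i <;> simp at hdeg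
    · split_ifs at h0 <;> omega
    · split_ifs at h1 <;> omega
    · split_ifs at h2 <;> omega
    · split_ifs at h3 <;> omega

/-- The local data are those of one of the two cases. -/
theorem local_data [IsSimpleGroup G] {P : Sylow 11 G} {g : G} {z : IrrCharacter G → ℤ} {C : ℕ} (T : TCol P g z C)
    {Q5 : Sylow 5 G} {k : ℕ} {M5 : Ideal AlgInt} {c : Fin 4 → IrrCharacter G} (D : FiveData g Q5 k M5 c rowA)
    (hk : k = 12 ∨ k = 192) {φ : IrrCharacter G → ℤ} (F : FCol g z C k c φ)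
    {Q7 : Sylow 7 G} {k7 : ℕ} {M7 : Ideal AlgInt} {c₁ c₂ θ₁ θ₂ : IrrCharacter G}
    (S : SevenData Q7 k7 M7 c₁ c₂ θ₁ θ₂) (hk7 : k7 ∈ [6, 48, 384]) (hsh : c 1 = c₂) :
    k = 12 ∧ ((⟨C, z (c 0), z (c 1), z (c 2), z (c 3), z c₁, z θ₁⟩ : Case) = caseA ∨
      (⟨C, z (c 0), z (c 1), z (c 2), z (c 3), z c₁, z θ₁⟩ : Case) = caseB) := by
  obtain ⟨hd0, hd1, hd2, hd3⟩ := deg_rowA D
  have hG := T.order
  obtain ⟨q, hq⟩ := D.fused
  have hg2 : orderOf (g ^ 2) = 5 := by rw [orderOf_pow, T.ord]; rfl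
  have hq1 : q * g ^ 2 * q⁻¹ ≠ 1 := fun e => by
    rw [conj_eq_one_iff] at e; rw [e, orderOf_one] at hg2; norm_num at hg2
  have hf5 : FrobSylow Q5 4 := D.index ▸ frobSylow_of_prime D.card
  have hf7 : FrobSylow Q7 3 := S.index ▸ frobSylow_of_prime S.card
  obtain ⟨y, hy⟩ := SmallOrderGraph.nonOne_nonempty Q7 S.card
  have hy1 : (y : G) ≠ 1 := mem_nonOne.1 hy
  have hy7 : orderOf (y : G) = 7 := Sections.order_eq S.card y.2 hy1
  have hC7 : Nat.card (Subgroup.centralizer ({(y : G)} : Set G)) = 7 * k7 := by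
    rw [Sections.cent_eq S.card y.2 hy1, S.cent]
  have hC5 : Nat.card (Subgroup.centralizer ({q * g ^ 2 * q⁻¹} : Set G)) = 5 * k := by
    rw [Sections.cent_eq D.card hq hq1, D.cent]
  have hk5' : ¬ 5 ∣ k := by rcases hk with rfl | rfl <;> norm_num
  have hk7' : ¬ 7 ∣ k7 := by fin_cases hk7 <;> norm_num
  -- the values of the members
  have hv5 : ∀ i, (c i : G → ℂ) (q * g ^ 2 * q⁻¹) = if charDegree (c i : G → ℂ) % 5 = 1 then (1 : ℂ) else -1 :=
    fun i => D.val i ⟨_, hq⟩ (mem_nonOne.2 hq1)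
  have hzero : ∀ χ : IrrCharacter G, 7 ∣ charDegree (χ : G → ℂ) → (χ : G → ℂ) (y : G) = 0 := by
    intro χ hd
    refine BSW.defect_zero_vanish (p := 7) (by norm_num) ?_ (by rw [hy7])
    rw [← charDegree_eq_deg, hG, show (244823040 : ℕ) = 7 * 34974720 from rfl,
      Nat.factorization_mul (by norm_num) (by norm_num), Finsupp.add_apply,
      (show Nat.Prime 7 by norm_num).factorization_self,
      Nat.factorization_eq_zero_of_not_dvd (show ¬ 7 ∣ 34974720 by norm_num)]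
    simpa using hd
  have hy0 : (c 0 : G → ℂ) (y : G) = 0 := hzero _ (by rw [hd0]; norm_num)
  have hy1' : (c 1 : G → ℂ) (y : G) = 1 := hsh ▸ S.val₂ y hy
  have hy2 : (c 2 : G → ℂ) (y : G) = 0 := hzero _ (by rw [hd2]; norm_num)
  have hy3 : (c 3 : G → ℂ) (y : G) = 0 := hzero _ (by rw [hd3]; norm_num)
  have hfm : ∀ i, φ (c i) = if charDegree (c i : G → ℂ) % 5 = 1 then 1 else -1 := F.member
  have hf24 : φ c₂ = -1 := by rw [← hsh, hfm, hd1]; rfl
  have hf1 : φ c₁ = 0 := F.zero _ (by rw [S.deg₁]; norm_num)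
  have hf3 : φ θ₁ = 0 := F.zero _ (by rw [S.deg₃]; norm_num)
  have hf4 : φ θ₂ = 0 := F.zero _ (by rw [S.deg₄]; norm_num)
  -- the two blocks as finite sets
  set B5 : Finset (IrrCharacter G) := insert oneChar (Finset.univ.image c) with hB5
  have hB5m : ∀ χ, χ ∈ principalBlock M5 G ↔ χ ∈ B5 := fun χ => by
    rw [D.mem_iff, hB5, Finset.mem_insert, Finset.mem_image]
    simp
  have hB5s : ∀ F' : IrrCharacter G → ℂ, ∑ χ ∈ B5, F' χ = F' oneChar + (F' (c 0) + F' (c 1) + F' (c 2) + F' (c 3)) := by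
    intro F'
    rw [hB5, Finset.sum_insert (by simp [D.ne_one]), Finset.sum_image fun i _ j _ e => D.inj e, Fin.sum_univ_four]
  set B7 : Finset (IrrCharacter G) := [oneChar, c₁, c₂, θ₁, θ₂].toFinset with hB7
  have hB7m : ∀ χ, χ ∈ principalBlock M7 G ↔ χ ∈ B7 := fun χ => by
    rw [S.mem_iff, hB7]; simp
  have hB7s : ∀ F' : IrrCharacter G → ℂ,
      ∑ χ ∈ B7, F' χ = F' oneChar + (F' c₁ + (F' c₂ + (F' θ₁ + F' θ₂))) := by
    intro F'
    rw [hB7, List.sum_toFinset _ S.distinct]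
    simp
  have h1 : ∀ x : G, ((oneChar : IrrCharacter G) : G → ℂ) x = 1 := fun x => by simp [oneChar]
  have hC0 : C ≠ 0 := fun h => by
    have := card_conjClass_mul_centralizer (g ^ 5)
    rw [T.card_cent, h, mul_zero, hG] at this
    norm_num at this
  -- pairs onto the section at seven
  have hff : (120960 * k7 * 2025) % (25 * (k * k)) = 0 := by
    obtain ⟨n, hn⟩ := Sections.pairs_section S.modular S.card hf7 y.2 hy1 hC7 hk7' hB7m (g ^ 2) (g ^ 2)
    rw [F.card_cent, hG, hB7s] at hn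
    simp only [h1, F.val, val_one, F.one, hf1, hf24, hf3, hf4, S.deg₂, S.val₂ y hy] at hn
    refine Nat.mod_eq_zero_of_dvd ⟨n, ?_⟩
    have : ((120960 * k7 * 2025 : ℕ) : ℂ) = ((25 * (k * k) * n : ℕ) : ℂ) := by
      push_cast at hn ⊢
      simp at hn
      linear_combination hn
    exact_mod_cast this
  have hft : ((120960 * k7 : ℕ) : ℤ) * (2024 - z (c 1)) % ((5 * k * C : ℕ) : ℤ) = 0 := by
    obtain ⟨n, hn⟩ := Sections.pairs_section S.modular S.card hf7 y.2 hy1 hC7 hk7' hB7m (g ^ 2) (g ^ 5)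
    rw [F.card_cent, T.card_cent, hG, hB7s] at hn
    simp only [h1, F.val, T.val, val_one, F.one, T.z_one, hf1, hf24, hf3, hf4, S.deg₂, S.val₂ y hy] at hn
    rw [← hsh] at hn
    refine Int.emod_eq_zero_of_dvd ⟨n, ?_⟩
    have : ((((120960 * k7 : ℕ) : ℤ) * (2024 - z (c 1)) : ℤ) : ℂ) = ((((5 * k * C : ℕ) : ℤ) * (n : ℤ) : ℤ) : ℂ) := by
      push_cast at hn ⊢
      simp at hn
      linear_combination hn
    exact_mod_cast this
  -- pairs onto the section at five
  have hyy : (120960 * k * 2023) % (49 * (k7 * k7)) = 0 := by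
    obtain ⟨n, hn⟩ := Sections.pairs_section D.modular D.card hf5 hq hq1 hC5 hk5' hB5m (y : G) (y : G)
    rw [hC7, hG, hB5s] at hn
    simp only [h1, hv5, hy0, hy1', hy2, hy3, val_one, hd0, hd1, hd2, hd3] at hn
    refine Nat.mod_eq_zero_of_dvd ⟨n, ?_⟩
    have : ((120960 * k * 2023 : ℕ) : ℂ) = ((49 * (k7 * k7) * n : ℕ) : ℂ) := by
      push_cast at hn ⊢
      simp at hn
      linear_combination hn
    exact_mod_cast this
  have hty : ((120960 * k : ℕ) : ℤ) * (2024 - z (c 1)) % ((7 * k7 * C : ℕ) : ℤ) = 0 := by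
    obtain ⟨n, hn⟩ := Sections.pairs_section D.modular D.card hf5 hq hq1 hC5 hk5' hB5m (y : G) (g ^ 5)
    rw [hC7, T.card_cent, hG, hB5s] at hn
    simp only [h1, hv5, hy0, hy1', hy2, hy3, T.val, T.z_one, val_one, hd0, hd1, hd2, hd3] at hn
    refine Int.emod_eq_zero_of_dvd ⟨n, ?_⟩
    have : ((((120960 * k : ℕ) : ℤ) * (2024 - z (c 1)) : ℤ) : ℂ) = ((((7 * k7 * C : ℕ) : ℤ) * (n : ℤ) : ℤ) : ℂ) := by
      push_cast at hn ⊢
      simp at hn
      linear_combination hn
    exact_mod_cast this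
  -- the square of the inverters
  have ht2 : (g ^ 5) ^ 2 = 1 := by rw [← pow_mul, show 5 * 2 = orderOf g from T.ord.symm, pow_orderOf_eq_one]
  have hsq : okSq k C (z (c 0)) (z (c 1)) (z (c 2)) (z (c 3)) = true := by
    obtain ⟨x, hx, he⟩ := Sections.square_section D.modular D.card hf5 hq hq1 hC5 hk5' (by norm_num) hB5m ht2
    rw [hG, hB5s] at he
    simp only [h1, hv5, T.val, T.z_one, val_one, hd0, hd1, hd2, hd3] at he
    have hcl : Nat.card {w : G // IsConj (g ^ 5) w} = ordM / C := by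
      have h1 := card_conjClass_mul_centralizer (g ^ 5)
      rw [T.card_cent, hG] at h1
      rw [ordM, ← h1, Nat.mul_div_cancel _ (Nat.pos_of_ne_zero hC0)]
    rw [hcl] at he
    simp only [okSq, List.any_eq_true, List.mem_range, decide_eq_true_eq]
    refine ⟨x, by omega, ?_⟩
    generalize (ordM / C : ℕ) = cl at he ⊢
    have : (((5 : ℤ) * ((x : ℤ) * x) * ((ordM : ℤ) * ordM) : ℤ) : ℂ) = (((k : ℤ) * ((cl : ℤ) * (cl : ℤ)) *
        ((ordM : ℤ) + nd 1771 * (z (c 0) * z (c 0)) - nd 2024 * (z (c 1) * z (c 1)) -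
          nd 5544 * (z (c 2) * z (c 2)) + nd 5796 * (z (c 3) * z (c 3))) : ℤ) : ℂ) := by
      simp only [nd, ordM]
      norm_num
      norm_num at he
      linear_combination (244823040 / 5 : ℂ) * he
    exact_mod_cast this
  -- the linear relations at the involution
  have hrt : ¬ 5 ∣ orderOf (g ^ 5) := by rw [orderOf_pow, T.ord]; norm_num
  have hlin5 : z (c 3) = -(1 + z (c 0) - z (c 1) - z (c 2)) := by
    have h := D.rel _ hrt
    rw [Fin.sum_univ_four] at h
    simp [hd0, hd1, hd2, hd3, T.val] at h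
    have : ((z (c 3) : ℤ) : ℂ) = ((-(1 + z (c 0) - z (c 1) - z (c 2)) : ℤ) : ℂ) := by
      push_cast; linear_combination h
    exact_mod_cast this
  have hlin7 : z θ₁ = 1 - z c₁ + z (c 1) := by
    have h := S.rel (g ^ 5) (by rw [orderOf_pow, T.ord]; norm_num)
    simp only [T.val, ← hsh] at h
    exact_mod_cast h
  have hz12 : z θ₂ = z θ₁ := by
    have h := S.reg (g ^ 5) (by rw [orderOf_pow, T.ord]; norm_num)
    simp only [T.val] at h
    exact_mod_cast h
  have hseven : (ordM : ℤ) - nd 1035 * (z c₁ * z c₁) + nd 2024 * (z (c 1) * z (c 1)) -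
      nd 990 * (z θ₁ * z θ₁) = 0 := by
    have h := S.pair _ ht2
    simp only [T.val, ← hsh] at h
    have : (((ordM : ℤ) - nd 1035 * (z c₁ * z c₁) + nd 2024 * (z (c 1) * z (c 1)) -
      nd 990 * (z θ₁ * z θ₁) : ℤ) : ℂ) = ((0 : ℤ) : ℂ) := by
      simp only [nd, ordM]
      norm_num
      linear_combination (244823040 : ℂ) * h
    exact_mod_cast this
  -- the sum of the squares
  have hdist : [oneChar, c 0, c 1, c 2, c 3, c₁, θ₁, θ₂].Nodup := by
    have hd := S.distinct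
    simp only [List.nodup_cons, List.mem_cons, List.not_mem_nil, or_false, not_or, List.nodup_nil,
      and_true, not_false_eq_true] at hd ⊢
    have hne : ∀ {χ ψ : IrrCharacter G}, charDegree (χ : G → ℂ) ≠ charDegree (ψ : G → ℂ) → χ ≠ ψ :=
      fun h e => h (by rw [e])
    refine ⟨⟨(D.ne_one 0).symm, (D.ne_one 1).symm, (D.ne_one 2).symm, (D.ne_one 3).symm, hd.1.1, hd.1.2.2.1,
      hd.1.2.2.2⟩, ⟨?_, ?_, ?_, ?_, ?_, ?_⟩, ⟨?_, ?_, ?_, ?_, ?_⟩, ⟨?_, ?_, ?_, ?_⟩, ⟨?_, ?_, ?_⟩,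
      ⟨?_, ?_⟩, hd.2.2.2⟩
    all_goals exact hne (by simp [hd0, hd1, hd2, hd3, S.deg₁, S.deg₃, S.deg₄])
  have hsum := Finset.sum_le_sum_of_subset_of_nonneg
    (Finset.subset_univ [oneChar, c 0, c 1, c 2, c 3, c₁, θ₁, θ₂].toFinset)
    (f := fun χ => z χ * z χ) fun i _ _ => mul_self_nonneg _
  rw [T.square, List.sum_toFinset _ hdist] at hsum
  simp only [List.map_cons, List.map_nil, List.sum_cons, List.sum_nil, T.z_one, hz12] at hsum
  -- the values are among the candidates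
  have hzz : ∀ χ, z χ * z χ ≤ (C : ℤ) := fun χ => by
    rw [← T.square]
    exact Finset.single_le_sum (f := fun χ => z χ * z χ) (fun i _ => mul_self_nonneg _) (Finset.mem_univ χ)
  have hconst : ∀ j, ∀ i < 10, i ≠ 0 → i ≠ 5 →
      (c j : G → ℂ) (g ^ i) = ((if charDegree (c j : G → ℂ) % 5 = 1 then 1 else -1 : ℤ) : ℂ) := by
    intro j i hi hi0 hi5
    have hy' : q * g ^ (2 * (3 * i)) * q⁻¹ ∈ (Q5 : Subgroup G) := by
      rw [pow_mul, ← conj_pow]; exact pow_mem hq _
    have hy'1 : q * g ^ (2 * (3 * i)) * q⁻¹ ≠ 1 := fun e => by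
      have := T.ord ▸ orderOf_dvd_of_pow_eq_one (conj_eq_one_iff.1 e)
      omega
    have hsplit : g ^ i = g ^ (2 * (3 * i)) * g ^ (5 * i) := by
      rw [← pow_add, pow_eq_pow_mod (2 * (3 * i) + 5 * i) (T.ord ▸ pow_orderOf_eq_one g),
        show (2 * (3 * i) + 5 * i) % 10 = i by omega]
    have hcl : ∀ b : G, (c j : G → ℂ) (q * b * q⁻¹) = (c j : G → ℂ) b := fun b =>
      isClassFunction_character (irr_isCharacter (c j).2) b q
    rw [← hcl, hsplit, show q * (g ^ (2 * (3 * i)) * g ^ (5 * i)) * q⁻¹ =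
        q * g ^ (2 * (3 * i)) * q⁻¹ * (q * g ^ (5 * i) * q⁻¹) by group,
      Sections.const D.modular hf5 ((D.mem_iff _).2 (Or.inr ⟨j, rfl⟩)) hy' hy'1
        (w := q * g ^ (5 * i) * q⁻¹) (by rw [conj_mul, conj_mul, ← pow_add, ← pow_add, add_comm]) ?_]
    · rw [D.val j ⟨_, hy'⟩ (mem_nonOne.2 hy'1)]
      split_ifs <;> norm_num
    · intro hd
      have h2 : (q * g ^ (5 * i) * q⁻¹) ^ 2 = 1 := by
        rw [conj_pow, ← pow_mul, pow_eq_pow_mod _ (T.ord ▸ pow_orderOf_eq_one g),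
          show 5 * i * 2 % 10 = 0 by omega]
        group
      have := Nat.le_of_dvd (by norm_num) (hd.trans (orderOf_dvd_of_pow_eq_one h2))
      omega
  have hzok : ∀ (j : Fin 4) (x : ℤ), x.natAbs = charDegree (c j : G → ℂ) →
      FiveRow.sg x = (if charDegree (c j : G → ℂ) % 5 = 1 then 1 else -1) → FiveRow.zok C x (z (c j)) = true := by
    intro j x hab hsg
    obtain ⟨h10, hle, h8, h2⟩ := ten_values T (c j) (hconst j)
    refine FiveRow.zok_iff.2 ⟨hzz _, ?_, ?_, ?_, ?_, ?_, ?_⟩ <;> simp only [hsg, hab, mOf_eq]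
    · exact Int.emod_eq_zero_of_dvd (T.four _)
    · exact Int.emod_eq_zero_of_dvd h10
    · exact h8
    · exact h2
    · exact hle
    · exact Int.emod_eq_zero_of_dvd (T.class_dvd _)
  have hmem : (k, (⟨C, z (c 0), z (c 1), z (c 2), z (c 3), z c₁, z θ₁⟩ : Case)) ∈ localRun := by
    simp only [localRun, List.mem_flatMap, List.mem_filter]
    refine ⟨k, by rcases hk with rfl | rfl <;> simp, k7, ⟨hk7, by simp [okK, hff, hyy]⟩, C,
      FiveRow.mem_cents T.dvd T.ten_dvd T.le, z (c 1),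
      ⟨FiveRow.mem_zlist T.le (hzok 1 (-2024) (by rw [hd1]; rfl) (by rw [hd1]; rfl)), by simp only [okB, hft, hty, decide_true, Bool.and_self]⟩,
      z (c 2), FiveRow.mem_zlist T.le (hzok 2 (-5544) (by rw [hd2]; rfl) (by rw [hd2]; rfl)),
      z (c 0), FiveRow.mem_zlist T.le (hzok 0 1771 (by rw [hd0]; rfl) (by rw [hd0]; rfl)), ?_⟩
    rw [← hlin5, if_pos]
    · refine List.mem_map.2 ⟨z c₁, List.mem_filter.2 ⟨?_, ?_⟩, by rw [← hlin7]⟩
      · have := zok_of_col T c₁ (hzz _)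
        rw [S.deg₁] at this
        exact SevenRow.mem_zlist this
      · rw [← hlin7]
        have h990 := zok_of_col T θ₁ (hzz _)
        rw [S.deg₃] at h990
        simp only [okSeven, h990, Bool.true_and, Bool.and_eq_true, decide_eq_true_eq]
        exact ⟨by linarith, hseven⟩
    · simp only [Bool.and_eq_true, decide_eq_true_eq]
      refine ⟨⟨hzok 3 5796 (by rw [hd3]; rfl) (by rw [hd3]; rfl), ?_⟩, hsq⟩
      nlinarith [mul_self_nonneg (z c₁), mul_self_nonneg (z θ₁)]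
  rcases local_cases hmem with h | h
  · exact ⟨congrArg Prod.fst h, Or.inl (congrArg Prod.snd h)⟩
  · exact ⟨congrArg Prod.fst h, Or.inr (congrArg Prod.snd h)⟩

end Cfsg.Agent.MTwentyFour.ByOrder.ThreeCase
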