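import Cfsg.Agent.Lib.Spor.MTwentyFourOrder.ThreeCase.Tables

/-!
The completions fail at eleven in the case of the Mathieu group, part 2.
-/

set_option autoImplicit false
set_option maxRecDepth 100000
set_option maxHeartbeats 4000000

namespace Cfsg.Agent.MTwentyFour.ByOrder.ThreeCase

/-- No completion extends to the block of eleven. -/
theorem eleven_tableB2 : solB2.all (fun L => !side11 caseB (known caseB ++ expand L)) = true := by
  decide +kernel

end Cfsg.Agent.MTwentyFour.ByOrder.ThreeCase
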