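import Cfsg.Agent.Lib.Spor.MTwentyFourOrder.ThreeCase.Tables

/-!
Every list of degrees of the block of twenty-three is in the table.
-/

set_option autoImplicit false
set_option maxRecDepth 100000
set_option maxHeartbeats 4000000

namespace Cfsg.Agent.MTwentyFour.ByOrder.ThreeCase

/-- No list is missing. -/
theorem rows_table : rowsRun (fun l => !rowsT.contains l) = false := by
  decide +kernel

end Cfsg.Agent.MTwentyFour.ByOrder.ThreeCase
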