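import Cfsg.Agent.Lib.Spor.MTwentyFourOrder.ThreeCase.Tables

/-!
The completions of the block of twenty-three in the case of the Mathieu group, part 0.
-/

set_option autoImplicit false
set_option maxRecDepth 100000
set_option maxHeartbeats 4000000

namespace Cfsg.Agent.MTwentyFour.ByOrder.ThreeCase

/-- No completion is missing. -/
theorem side_tableB0 : rowsT0.all (fun l => !side23 caseB l fun L => !solB.contains L) = true := by
  decide +kernel

end Cfsg.Agent.MTwentyFour.ByOrder.ThreeCase
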