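import Cfsg.Agent.Lib.Spor.MTwentyFourOrder.ThreeCase.Local
import Cfsg.Agent.Lib.Spor.MTwentyFourOrder.ThreeCase.Split
import Cfsg.Agent.Lib.Spor.MTwentyFourOrder.ThreeCase.RunRows
import Cfsg.Agent.Lib.Spor.MTwentyFourOrder.ThreeCase.RunSideA
import Cfsg.Agent.Lib.Spor.MTwentyFourOrder.ThreeCase.RunSideB0
import Cfsg.Agent.Lib.Spor.MTwentyFourOrder.ThreeCase.RunSideB1
import Cfsg.Agent.Lib.Spor.MTwentyFourOrder.ThreeCase.RunSideB2
import Cfsg.Agent.Lib.Spor.MTwentyFourOrder.ThreeCase.RunSideB3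
import Cfsg.Agent.Lib.Spor.MTwentyFourOrder.ThreeCase.RunElevenB0
import Cfsg.Agent.Lib.Spor.MTwentyFourOrder.ThreeCase.RunElevenB1
import Cfsg.Agent.Lib.Spor.MTwentyFourOrder.ThreeCase.RunElevenB2

/-!
A simple group of the order of the Mathieu group of degree twenty-four with automiser three at seven has a character
of degree twenty-three.
-/

set_option autoImplicit false
set_option linter.unusedSectionVars false
set_option maxRecDepth 100000
set_option maxHeartbeats 2000000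

namespace Cfsg.Agent.MTwentyFour.ByOrder.ThreeCase

open Cfsg Cfsg.Agent.Char Cfsg.Agent.Small.Order459648 Cfsg.Agent.Char.PrimeSylowCount
open Cfsg.Agent.MTwelve.OrderFront (val_one)
open Cfsg.Agent.MTwentyFour.ByOrder.Ten (TCol mEl w11 w23)
open Cfsg.Agent.MTwentyFour.ByOrder.FiveColumn (FCol)
open Cfsg.Agent.MTwentyFour.ByOrder.FiveRow (FiveData rowA rowB listB)
open Cfsg.Agent.MTwentyFour.ByOrder.SevenRow (SevenData)
open scoped ComplexConjugate
open scoped _root_.Classical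

universe u

/-- The degrees, by their weights. -/
theorem class_table : (List.range 15647).all (fun d =>
    !(decide (2 ≤ d) && decide (ordM % d = 0) && decide (d ≠ 11) && decide (d ≠ 23) &&
      [0, 1, 22, 11, 12].contains (d % 23) && [0, 1, 10].contains (d % 11)) ||
    (if (w23 d).natAbs = 2 then xl.contains d else if (w23 d).natAbs = 1 then gl.contains d
      else if w11 d = 0 then decide (d % 253 = 0) else yl.contains d)) = true := by
  decide +kernel

theorem xl_weights : ∀ d ∈ xl, w23 d = 2 * c23 d ∧ wt d = 1 := by decide +kernel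

theorem gl_weights : ∀ d ∈ gl, w23 d = c23 d ∧ wt d = 2 := by decide +kernel

theorem yl_weights : ∀ d ∈ yl, w23 d = 0 := by decide +kernel

/-- No completion in either case. -/
theorem no_completion {cs : Case} (hcs : cs = caseA ∨ cs = caseB) {L : List Tr}
    (h1 : ∀ k : List ℕ → Bool, k (L.map Prod.fst) = true → rowsRun k = true)
    (h2 : ∀ k : List Tr → Bool, k L = true → side23 cs (L.map Prod.fst) k = true)
    (h3 : side11 cs (known cs ++ expand L) = true) : False := by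
  have hm : L.map Prod.fst ∈ rowsT := by
    by_contra hc
    have := h1 (fun l => !rowsT.contains l) (by simpa [List.contains_iff_mem] using hc)
    rw [rows_table] at this
    exact Bool.false_ne_true this
  rcases hcs with rfl | rfl
  · have hL : L ∈ solA := by
      by_contra hc
      have hs := List.all_eq_true.1 side_tableA _ hm
      rw [h2 (fun L => !solA.contains L) (by simpa [List.contains_iff_mem] using hc)] at hs
      exact Bool.false_ne_true hs
    have := List.all_eq_true.1 eleven_tableA _ hL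
    rw [h3] at this
    exact Bool.false_ne_true this
  · have hL : L ∈ solB := by
      by_contra hc
      have hk := h2 (fun L => !solB.contains L) (by simpa [List.contains_iff_mem] using hc)
      simp only [rowsT, List.mem_append] at hm
      rcases hm with ((hm | hm) | hm) | hm
      · have hs := List.all_eq_true.1 side_tableB0 _ hm; rw [hk] at hs; exact Bool.false_ne_true hs
      · have hs := List.all_eq_true.1 side_tableB1 _ hm; rw [hk] at hs; exact Bool.false_ne_true hs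
      · have hs := List.all_eq_true.1 side_tableB2 _ hm; rw [hk] at hs; exact Bool.false_ne_true hs
      · have hs := List.all_eq_true.1 side_tableB3 _ hm; rw [hk] at hs; exact Bool.false_ne_true hs
    simp only [solB, List.mem_append] at hL
    rcases hL with (hL | hL) | hL
    · have := List.all_eq_true.1 eleven_tableB0 _ hL; rw [h3] at this; exact Bool.false_ne_true this
    · have := List.all_eq_true.1 eleven_tableB1 _ hL; rw [h3] at this; exact Bool.false_ne_true this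
    · have := List.all_eq_true.1 eleven_tableB2 _ hL; rw [h3] at this; exact Bool.false_ne_true this

variable {G : Type u} [Group G] [Fintype G] [IsSimpleGroup G]

/-- With automiser three at seven there is a character of degree twenty-three. -/
theorem exists_deg23_of_three {P : Sylow 11 G} {g : G} {z : IrrCharacter G → ℤ} {C : ℕ} (T : TCol P g z C)
    {Q5 : Sylow 5 G} {k : ℕ} {M5 : Ideal AlgInt} {c : Fin 4 → IrrCharacter G} {r : List ℤ}
    (hr : (r = rowA ∧ (k = 12 ∨ k = 192)) ∨ (r = rowB ∧ (C, k) ∈ listB)) (D : FiveData g Q5 k M5 c r)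
    {Q7 : Sylow 7 G} {k7 : ℕ} {M7 : Ideal AlgInt} {c₁ c₂ θ₁ θ₂ : IrrCharacter G} (hk7 : k7 ∈ [6, 48, 384])
    (S : SevenData Q7 k7 M7 c₁ c₂ θ₁ θ₂) : ∃ χ : IrrCharacter G, charDegree (χ : G → ℂ) = 23 := by
  by_contra hno
  rw [not_exists] at hno
  have hG := T.order
  obtain ⟨hrA, hsh⟩ := shared (hr.imp And.left And.left) D S (by fin_cases hk7 <;> norm_num)
  subst hrA
  have hk : k = 12 ∨ k = 192 := by
    rcases hr with ⟨-, h⟩ | ⟨h, -⟩
    exacts [h, absurd h (by decide)]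
  obtain ⟨φ, F⟩ := FiveColumn.exists_fcol T D
  obtain ⟨rfl, hcs⟩ := local_data T D hk F S hk7 hsh
  set cs : Case := ⟨C, z (c 0), z (c 1), z (c 2), z (c 3), z c₁, z θ₁⟩ with hcsd
  obtain ⟨hd0, hd1, hd2, hd3⟩ := deg_rowA D
  obtain ⟨η, η', hne, hη, h11c, hreg⟩ := exists_split23 (G := G) hG
  let t : IrrCharacter G → Tr := fun χ => (charDegree (χ : G → ℂ), φ χ, z χ)
  let wa : IrrCharacter G → ℕ := fun χ => (w23 (charDegree (χ : G → ℂ))).natAbs
  have hfst : ∀ χ, (t χ).1 = charDegree (χ : G → ℂ) := fun _ => rfl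
  -- the known members
  have hz12 : z θ₂ = z θ₁ := by
    have h := S.reg (g ^ 5) (by rw [orderOf_pow, T.ord]; norm_num)
    simp only [T.val] at h
    exact_mod_cast h
  have hd : ∀ i, φ (c i) = if charDegree (c i : G → ℂ) % 5 = 1 then 1 else -1 := F.member
  set K : List (IrrCharacter G) := [oneChar, c 0, c 1, c 2, c 3, c₁, θ₁, θ₂] with hKd
  have hdone : charDegree ((oneChar : IrrCharacter G) : G → ℂ) = 1 := by simp [oneChar, charDegree]
  have hKt : K.map t = known cs := by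
    have e0 : φ (c 0) = 1 := by rw [hd, hd0]; rfl
    have e1 : φ (c 1) = -1 := by rw [hd, hd1]; rfl
    have e2 : φ (c 2) = -1 := by rw [hd, hd2]; rfl
    have e3 : φ (c 3) = 1 := by rw [hd, hd3]; rfl
    have e4 : φ c₁ = 0 := F.zero _ (by rw [S.deg₁]; norm_num)
    have e5 : φ θ₁ = 0 := F.zero _ (by rw [S.deg₃]; norm_num)
    have e6 : φ θ₂ = 0 := F.zero _ (by rw [S.deg₄]; norm_num)
    simp [hKd, t, known, hcsd, hdone, hd0, hd1, hd2, hd3, S.deg₁, S.deg₃, S.deg₄, F.one, T.z_one, e0, e1, e2, e3, e4,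
      e5, e6, hz12]
  have hKn : K.Nodup := by
    have hd' := S.distinct
    simp only [hKd, List.nodup_cons, List.mem_cons, List.not_mem_nil, or_false, not_or, List.nodup_nil,
      and_true, not_false_eq_true] at hd' ⊢
    have hne : ∀ {χ ψ : IrrCharacter G}, charDegree (χ : G → ℂ) ≠ charDegree (ψ : G → ℂ) → χ ≠ ψ :=
      fun h e => h (by rw [e])
    refine ⟨⟨(D.ne_one 0).symm, (D.ne_one 1).symm, (D.ne_one 2).symm, (D.ne_one 3).symm, hd'.1.1, hd'.1.2.2.1,
      hd'.1.2.2.2⟩, ⟨?_, ?_, ?_, ?_, ?_, ?_⟩, ⟨?_, ?_, ?_, ?_, ?_⟩, ⟨?_, ?_, ?_, ?_⟩, ⟨?_, ?_, ?_⟩,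
      ⟨?_, ?_⟩, hd'.2.2.2⟩
    all_goals exact hne (by simp [hd0, hd1, hd2, hd3, S.deg₁, S.deg₃, S.deg₄])
  set Kf := K.toFinset with hKf
  have hKsum : ∀ F' : IrrCharacter G → ℤ, ∑ χ ∈ Kf, F' χ = (K.map F').sum := fun F' =>
    List.sum_toFinset _ hKn
  have hKw : ∀ χ ∈ Kf, wa χ = 0 ∨ wa χ = 2 := by
    intro χ hχ
    have h1 : t χ ∈ known cs := hKt ▸ List.mem_map_of_mem (List.mem_toFinset.1 hχ)
    have h2 : ∀ x ∈ known cs, (w23 x.1).natAbs = 0 ∨ (w23 x.1).natAbs = 2 := by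
      intro x hx
      simp only [known, List.mem_cons, List.not_mem_nil, or_false] at hx
      rcases hx with rfl | rfl | rfl | rfl | rfl | rfl | rfl | rfl <;> simp [w23]
    exact h2 _ h1
  have hwη : wa η = 1 := (hη η).2 (Or.inl rfl)
  have hwη' : wa η' = 1 := (hη η').2 (Or.inr rfl)
  have hηK : η ∉ Kf := fun h => by rcases hKw η h with e | e <;> omega
  have hηK' : η' ∉ Kf := fun h => by rcases hKw η' h with e | e <;> omega
  -- the degrees
  have hwle : ∀ χ, wa χ ≤ 2 := fun χ => by simp only [wa, w23]; split_ifs <;> norm_num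
  have hclass : ∀ χ, χ ∉ Kf → if wa χ = 2 then (t χ).1 ∈ xl else if wa χ = 1 then (t χ).1 ∈ gl
      else if w11 (t χ).1 = 0 then (t χ).1 % 253 = 0 else (t χ).1 ∈ yl := by
    intro χ hχ
    have hne1 : χ ≠ oneChar := fun e => hχ (by rw [e, hKf, List.mem_toFinset]; simp [hKd])
    obtain ⟨h2, hoff⟩ := Eleven.deg_range hG hne1
    simp only [Eleven.off] at hoff
    have h := List.all_eq_true.1 class_table (t χ).1 (List.mem_range.2 (by rw [hfst]; omega))
    have h23 := Eleven.deg_res hG χ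
    have h11 := deg_res_eleven hG χ
    simp only [Eleven.res, List.mem_cons, List.not_mem_nil, or_false] at h23
    simp only [Five.resEleven, List.mem_cons, List.not_mem_nil, or_false] at h11
    have hne11 : charDegree (χ : G → ℂ) ≠ 11 := MathieuByGraph.deg_ne_eleven (na hG) (by rw [hG]; norm_num)
      (by rw [hG]; norm_num) (by rw [hG]; norm_num) hne1
    have hcond : (decide (2 ≤ (t χ).1) && decide (ordM % (t χ).1 = 0) && decide ((t χ).1 ≠ 11) &&
        decide ((t χ).1 ≠ 23) && [0, 1, 22, 11, 12].contains ((t χ).1 % 23) &&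
        [0, 1, 10].contains ((t χ).1 % 11)) = true := by
      simp only [Bool.and_eq_true, decide_eq_true_eq, List.contains_iff_mem, List.mem_cons, List.not_mem_nil, or_false,
        hfst]
      refine ⟨⟨⟨⟨⟨h2, Nat.mod_eq_zero_of_dvd (deg_dvd hG χ)⟩, hne11⟩, hno χ⟩, ?_⟩, h11⟩
      omega
    rw [hcond, Bool.not_true, Bool.false_or] at h
    simp only [wa, ← hfst χ]
    split_ifs at h ⊢ <;> first | exact List.contains_iff_mem.1 h | exact of_decide_eq_true h
  set A7 := Finset.univ.filter (fun χ => χ ∉ Kf ∧ wa χ = 2) with hA7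
  set A11 := Finset.univ.filter (fun χ => χ ∉ Kf ∧ wa χ = 0 ∧ w11 (t χ).1 ≠ 0) with hA11
  set Fl := Finset.univ.filter (fun χ => χ ∉ Kf ∧ wa χ = 0 ∧ w11 (t χ).1 = 0) with hFl
  have hsum : ∀ F' : IrrCharacter G → ℤ, ∑ χ, F' χ =
      ∑ χ ∈ Kf, F' χ + ∑ χ ∈ A7, F' χ + (F' η + F' η') + ∑ χ ∈ A11, F' χ + ∑ χ ∈ Fl, F' χ := by
    intro F'
    rw [← Finset.sum_pair (f := F') hne,
      show ({η, η'} : Finset (IrrCharacter G)) = Finset.univ.filter (fun χ => χ ∉ Kf ∧ wa χ = 1) by
        ext χ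
        simp only [Finset.mem_insert, Finset.mem_singleton, Finset.mem_filter, Finset.mem_univ, true_and]
        constructor
        · rintro (rfl | rfl)
          exacts [⟨hηK, hwη⟩, ⟨hηK', hwη'⟩]
        · exact fun h => (hη χ).1 h.2,
      show Kf = Finset.univ.filter (fun χ => χ ∈ Kf) by ext; simp]
    simp only [hA7, hA11, hFl, Finset.sum_filter, ← Finset.sum_add_distrib]
    refine Finset.sum_congr rfl fun χ _ => ?_
    have hw := hwle χ
    by_cases hK' : χ ∈ Kf
    · simp [hK']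
    · rcases (show wa χ = 0 ∨ wa χ = 1 ∨ wa χ = 2 by omega) with e | e | e <;>
        by_cases h11 : w11 (t χ).1 = 0 <;> simp [hK', e, h11]
  set gv : Tr := t η with hgv
  set l7 : List Tr := A7.toList.map t with hl7
  set L11 : List Tr := A11.toList.map t with hL11
  have hgl : gv.1 ∈ gl := by
    have := hclass η hηK
    rw [if_neg (by omega), if_pos hwη] at this
    exact this
  have hxl : ∀ x ∈ l7, x.1 ∈ xl := fun x hx => by
    obtain ⟨χ, hχ, rfl⟩ := List.mem_map.1 hx
    rw [Finset.mem_toList, hA7, Finset.mem_filter] at hχ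
    have := hclass χ hχ.2.1
    rw [if_pos hχ.2.2] at this
    exact this
  have hyl : ∀ x ∈ L11, x.1 ∈ yl := fun x hx => by
    obtain ⟨χ, hχ, rfl⟩ := List.mem_map.1 hx
    rw [Finset.mem_toList, hA11, Finset.mem_filter] at hχ
    have := hclass χ hχ.2.1
    rw [if_neg (by omega), if_neg (by omega), if_neg hχ.2.2.2] at this
    exact this
  have hfl : ∀ χ ∈ Fl, (t χ).1 % 253 = 0 ∧ w11 (t χ).1 = 0 ∧ w23 (t χ).1 = 0 := fun χ hχ => by
    rw [hFl, Finset.mem_filter] at hχ
    obtain ⟨-, hK', hw, h11⟩ := hχ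
    have := hclass χ hK'
    rw [if_neg (by omega), if_neg (by omega), if_pos h11] at this
    exact ⟨this, h11, Int.natAbs_eq_zero.1 hw⟩
  have htη : t η' = t η := by
    have h1 := hreg 1 (by simp)
    have h2 := hreg (g ^ 2) (by rw [orderOf_pow, T.ord]; norm_num)
    have h5 := hreg (g ^ 5) (by rw [orderOf_pow, T.ord]; norm_num)
    simp only [val_one, Int.cast_natCast, Nat.cast_inj] at h1
    simp only [F.val, Int.cast_inj] at h2
    simp only [T.val, Int.cast_inj] at h5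
    simp [t, h1, h2, h5]
  set All := known cs ++ expand (gv :: l7) ++ L11 with hAll
  have htot : ∀ F' : Tr → ℤ, ∑ χ, F' (t χ) = sumT F' All + ∑ χ ∈ Fl, F' (t χ) := by
    intro F'
    rw [hsum, hKsum, hAll, sumT_append, sumT_append, sumT_expand, ← hKt]
    simp only [sumT, List.map_cons, List.sum_cons, List.map_map, hl7, hL11, htη]
    rw [← Finset.sum_map_toList A11, ← Finset.sum_map_toList A7]
    simp only [Function.comp_def]
    rw [List.map_congr_left (l := A7.toList) (f := fun χ => wt (t χ).1 * F' (t χ)) (g := fun χ => F' (t χ)) fun χ hχ => by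
      rw [(xl_weights _ (hxl _ (List.mem_map_of_mem hχ))).2, one_mul], (gl_weights _ hgl).2]
    ring
  have h7 : l7.length = 7 := by
    have h := hsum fun χ => if wa χ = 2 then (1 : ℤ) else 0
    rw [Finset.sum_boole, h11c, hKsum] at h
    have hk4 : (K.map fun χ => if wa χ = 2 then (1 : ℤ) else 0).sum = 4 := by
      have : (K.map fun χ => if wa χ = 2 then (1 : ℤ) else 0).sum =
          sumT (fun x => if (w23 x.1).natAbs = 2 then (1 : ℤ) else 0) (known cs) := by
        rw [← hKt, sumT, List.map_map]; rfl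
      rw [this]
      simp [sumT, known, w23]
    rw [hk4, Finset.sum_congr rfl (s₁ := A7) (g := fun _ => (1 : ℤ)) fun χ hχ => if_pos (Finset.mem_filter.1 hχ).2.2,
      if_neg (by omega), if_neg (by omega),
      Finset.sum_eq_zero (s := A11) fun χ hχ => if_neg (by have := (Finset.mem_filter.1 hχ).2.2.1; omega),
      Finset.sum_eq_zero (s := Fl) fun χ hχ => if_neg (by have := (Finset.mem_filter.1 hχ).2.2.1; omega)] at h
    simp at h
    rw [hl7, List.length_map, Finset.length_toList]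
    omega
  -- sums weighted at eleven and at twenty-three
  have ht11 : ∀ F' : Tr → ℤ, ∑ χ, w11 (t χ).1 * F' (t χ) = sumT (fun x => s11 x.1 * F' x) All := fun F' => by
    have h := htot fun x => s11 x.1 * F' x
    rw [Finset.sum_eq_zero (s := Fl) fun χ hχ => by rw [← w11_eq, (hfl χ hχ).2.1, zero_mul], add_zero] at h
    simpa only [w11_eq] using h
  have ht23 : ∀ F' : Tr → ℤ, ∑ χ, w23 (t χ).1 * F' (t χ) =
      2 * (F' (1, 1, 1) + F' (5544, -1, cs.z2) + 2 * F' (990, 0, cs.f) +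
        sumT (fun x => c23 x.1 * F' x) (gv :: l7)) := fun F' => by
    have h := htot fun x => w23 x.1 * F' x
    rw [Finset.sum_eq_zero (s := Fl) fun χ hχ => by rw [(hfl χ hχ).2.2, zero_mul], add_zero, hAll, sumT_append,
      sumT_append, sumT_expand] at h
    have h0 : sumT (fun x => w23 x.1 * F' x) L11 = 0 := List.sum_eq_zero fun v hv => by
      obtain ⟨x, hx, rfl⟩ := List.mem_map.1 hv
      rw [yl_weights _ (hyl x hx), zero_mul]
    have h2 : sumT (fun x => wt x.1 * (w23 x.1 * F' x)) (gv :: l7) =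
        2 * sumT (fun x => c23 x.1 * F' x) (gv :: l7) := by
      simp only [sumT, List.map_cons, List.sum_cons]
      rw [mul_add, ← List.sum_map_mul_left, (gl_weights _ hgl).1, (gl_weights _ hgl).2]
      congr 1
      refine congrArg List.sum (List.map_congr_left fun x hx => ?_)
      rw [(xl_weights _ (hxl x hx)).1, (xl_weights _ (hxl x hx)).2]
      ring
    have h3 : sumT (fun x => w23 x.1 * F' x) (known cs) =
        2 * (F' (1, 1, 1) + F' (5544, -1, cs.z2) + 2 * F' (990, 0, cs.f)) := by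
      simp [sumT, known, w23]
      ring
    rw [h0, h2, h3] at h
    rw [h]; ring
  obtain ⟨hN, h11s, h11d, h23d, hdz⟩ := weighted_deg (G := G) hG T
  -- the quadratic and mixed sums as integers
  obtain ⟨n₁, hn₁⟩ := F.quad_eleven
  obtain ⟨n₂, hn₂⟩ := F.mixed_eleven
  obtain ⟨n₃, hn₃⟩ := F.quad_twentythree
  obtain ⟨n₄, hn₄⟩ := F.mixed_twentythree
  have hw : ∀ (w : ℕ → ℤ) (a : IrrCharacter G → ℤ) (v : ℤ) (R : ℂ),
      ∑ χ : IrrCharacter G, (w (charDegree (χ : G → ℂ)) : ℂ) * (a χ : ℂ) / (charDegree (χ : G → ℂ) : ℂ) = R →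
      244823040 * R = (v : ℂ) →
      ∑ χ : IrrCharacter G, w (t χ).1 * (nd (t χ).1 * a χ) = v := by
    intro w a v R hR hv
    have h := int_form (G := G) hG (fun χ => w (charDegree (χ : G → ℂ))) a
    rw [hR, hv] at h
    simp only [hfst, ← mul_assoc]
    exact_mod_cast h
  have q11 : sumT (fun x => s11 x.1 * (nd x.1 * (x.2.1 * x.2.1))) All = 3600 * (n₁ : ℤ) := by
    rw [← ht11]
    refine hw w11 (fun χ => φ χ * φ χ) _ ?_ (R := (5 * ((12 : ℕ) : ℂ)) ^ 2 * n₁ / 244823040) (by push_cast; ring)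
    rw [← hn₁]; simp [pow_two]
  have q23 : ∑ χ : IrrCharacter G, w23 (t χ).1 * (nd (t χ).1 * (φ χ * φ χ)) = 2 * (3600 * (n₃ : ℤ)) := by
    refine hw w23 (fun χ => φ χ * φ χ) _ ?_ (R := 2 * (5 * ((12 : ℕ) : ℂ)) ^ 2 * n₃ / 244823040) (by push_cast; ring)
    rw [← hn₃]; simp [pow_two]
  have m11 : sumT (fun x => s11 x.1 * (nd x.1 * (x.2.1 * x.2.2))) All = 60 * (C : ℤ) * n₂ := by
    rw [← ht11]
    refine hw w11 (fun χ => φ χ * z χ) _ ?_ (R := 5 * ((12 : ℕ) : ℂ) * C * n₂ / 244823040) (by push_cast; ring)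
    rw [← hn₂]; simp
  have m23 : ∑ χ : IrrCharacter G, w23 (t χ).1 * (nd (t χ).1 * (φ χ * z χ)) = 2 * (60 * (C : ℤ) * n₄) := by
    refine hw w23 (fun χ => φ χ * z χ) _ ?_ (R := 2 * (5 * ((12 : ℕ) : ℂ) * C) * n₄ / 244823040) (by push_cast; ring)
    rw [← hn₄]; simp
  have z11 : sumT (fun x => s11 x.1 * (nd x.1 * (x.2.2 * x.2.2))) All = 11 * (C : ℤ) * C := by
    rw [← ht11]
    refine hw w11 (fun χ => z χ * z χ) _ ?_ (R := 11 * (C : ℂ) ^ 2 / 244823040) (by push_cast; ring)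
    rw [← T.quad_eleven]; simp [pow_two]
  have z23 : ∑ χ : IrrCharacter G, w23 (t χ).1 * (nd (t χ).1 * (z χ * z χ)) = 0 := by
    refine hw w23 (fun χ => z χ * z χ) _ ?_ (R := 0) (by simp)
    rw [← T.quad_twentythree]; simp [pow_two]
  have e23q : ∀ a b : Tr → ℤ, ∑ χ : IrrCharacter G, w23 (t χ).1 * (nd (t χ).1 * (a (t χ) * b (t χ))) =
      2 * ((ordM : ℤ) * (a (1, 1, 1) * b (1, 1, 1)) + nd 5544 * (a (5544, -1, cs.z2) * b (5544, -1, cs.z2)) +
        2 * (nd 990 * (a (990, 0, cs.f) * b (990, 0, cs.f))) +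
        sumT (fun x => c23 x.1 * nd x.1 * (a x * b x)) (gv :: l7)) := fun a b => by
    have := ht23 fun x => nd x.1 * (a x * b x)
    simp only [mul_assoc] at this ⊢
    rw [this]
    simp [nd]
  -- the values at the regular elements
  have hpok : ∀ χ, pok (t χ).1 (φ χ) = true := by
    intro χ
    have hsq : φ χ * φ χ ≤ 60 := by
      have := Finset.single_le_sum (f := fun χ => φ χ * φ χ) (fun i _ => mul_self_nonneg _) (Finset.mem_univ χ)
      rw [F.square] at this
      simpa using this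
    obtain ⟨b1, b2, b3⟩ := F.bound χ
    simp only [pok, Bool.and_eq_true, Bool.or_eq_true, decide_eq_true_eq, FiveRow.mOf_eq, hfst]
    refine ⟨⟨⟨⟨⟨⟨hsq, Int.emod_eq_zero_of_dvd (F.congr χ)⟩, ?_⟩, b3⟩, b2⟩, Int.emod_eq_zero_of_dvd b1⟩, ?_⟩
    · by_cases h5 : charDegree (χ : G → ℂ) % 5 = 0
      · exact Or.inr (F.zero χ (Nat.dvd_of_mod_eq_zero h5))
      · exact Or.inl h5
    · exact Int.emod_eq_zero_of_dvd (F.class_dvd χ)
  have hzok : ∀ χ, zok C (t χ).1 (z χ) = true := by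
    intro χ
    have hsq : z χ * z χ ≤ (C : ℤ) := by
      rw [← T.square]
      exact Finset.single_le_sum (f := fun χ => z χ * z χ) (fun i _ => mul_self_nonneg _) (Finset.mem_univ χ)
    obtain ⟨hb, h2⟩ := T.bound χ
    rw [abs_le] at hb
    simp only [zok, Bool.and_eq_true, Bool.or_eq_true, decide_eq_true_eq, FiveRow.mOf_eq, hfst]
    refine ⟨⟨⟨⟨⟨⟨hsq, Int.emod_eq_zero_of_dvd (T.four χ)⟩, Int.emod_eq_zero_of_dvd h2⟩, ?_⟩, hb.1⟩, hb.2⟩,
      Int.emod_eq_zero_of_dvd (T.class_dvd χ)⟩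
    by_cases h5 : charDegree (χ : G → ℂ) % 5 = 0
    · exact Or.inr (Int.emod_eq_zero_of_dvd (F.ten χ (Nat.dvd_of_mod_eq_zero h5)))
    · exact Or.inl h5
  -- the totals
  have tD : ∑ χ, ((t χ).1 : ℤ) * (t χ).1 = 244823040 := hN
  have tP : ∑ χ, (t χ).2.1 * (t χ).2.1 = 60 := by
    show ∑ χ, φ χ * φ χ = 60
    rw [F.square]; rfl
  have tZ : ∑ χ, (t χ).2.2 * (t χ).2.2 = (C : ℤ) := T.square
  have tA : ∑ χ, ((t χ).1 : ℤ) * (t χ).2.1 = 0 := F.orth_one
  have tB : ∑ χ, ((t χ).1 : ℤ) * (t χ).2.2 = 0 := hdz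
  have tC : ∑ χ, (t χ).2.1 * (t χ).2.2 = 0 := F.orth_invol
  rw [htot (fun x => (x.1 : ℤ) * x.1)] at tD
  rw [htot (fun x => x.2.1 * x.2.1)] at tP
  rw [htot (fun x => x.2.2 * x.2.2)] at tZ
  rw [htot (fun x => (x.1 : ℤ) * x.2.1)] at tA
  rw [htot (fun x => (x.1 : ℤ) * x.2.2)] at tB
  rw [htot (fun x => x.2.1 * x.2.2)] at tC
  have hcs' : ∀ a b : Tr → ℤ, ∀ s u v : ℤ, sumT (fun x => a x * b x) All + ∑ χ ∈ Fl, a (t χ) * b (t χ) = 0 →
      sumT (fun x => a x * a x) All + ∑ χ ∈ Fl, a (t χ) * a (t χ) = u →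
      sumT (fun x => b x * b x) All + ∑ χ ∈ Fl, b (t χ) * b (t χ) = v →
      sumT (fun x => a x * b x) All = s →
      s * s ≤ (u - sumT (fun x => a x * a x) All) * (v - sumT (fun x => b x * b x) All) := by
    intro a b s u v h0 hu hv hs
    have h := Finset.sum_mul_sq_le_sq_mul_sq Fl (fun χ => a (t χ)) (fun χ => b (t χ))
    simp only [pow_two] at h
    rw [show ∑ χ ∈ Fl, a (t χ) * b (t χ) = -s by linarith, neg_mul_neg] at h
    rw [← hu, ← hv, add_sub_cancel_left, add_sub_cancel_left]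
    exact h
  have c1 := hcs' (fun x => (x.1 : ℤ)) (fun x => x.2.1) _ _ _ tA tD tP rfl
  have c2 := hcs' (fun x => (x.1 : ℤ)) (fun x => x.2.2) _ _ _ tB tD tZ rfl
  have c3 := hcs' (fun x => x.2.1) (fun x => x.2.2) _ _ _ tC tP tZ rfl
  have hFnn : ∀ a : IrrCharacter G → ℤ, 0 ≤ ∑ χ ∈ Fl, a χ * a χ := fun a =>
    Finset.sum_nonneg fun χ _ => mul_self_nonneg _
  -- the completion is found
  have e1 := ht23 (fun x => (x.1 : ℤ))
  rw [show ∑ χ, w23 (t χ).1 * ((t χ).1 : ℤ) = 0 from h23d] at e1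
  have e2 := ht23 (fun x => x.2.1)
  rw [show ∑ χ, w23 (t χ).1 * (t χ).2.1 = 0 from F.lin_twentythree] at e2
  have e3 := ht23 (fun x => x.2.2)
  rw [show ∑ χ, w23 (t χ).1 * (t χ).2.2 = 0 from T.lin_twentythree] at e3
  have e4 := e23q (fun x => x.2.1) (fun x => x.2.1)
  rw [show ∑ χ, w23 (t χ).1 * (nd (t χ).1 * ((t χ).2.1 * (t χ).2.1)) = 2 * (3600 * (n₃ : ℤ)) from q23] at e4
  have e5 := e23q (fun x => x.2.2) (fun x => x.2.2)
  rw [show ∑ χ, w23 (t χ).1 * (nd (t χ).1 * ((t χ).2.2 * (t χ).2.2)) = 0 from z23] at e5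
  have e6 := e23q (fun x => x.2.1) (fun x => x.2.2)
  rw [show ∑ χ, w23 (t χ).1 * (nd (t χ).1 * ((t χ).2.1 * (t χ).2.2)) = 2 * (60 * (C : ℤ) * n₄) from m23] at e6
  norm_num at e1 e2 e3 e4 e5 e6
  have assoc : ∀ a : Tr → ℤ, sumT (fun x => s11 x.1 * nd x.1 * a x) All = sumT (fun x => s11 x.1 * (nd x.1 * a x)) All :=
    fun a => by simp only [mul_assoc]
  replace q11 := (assoc _).trans q11
  replace m11 := (assoc _).trans m11
  replace z11 := (assoc _).trans z11
  obtain ⟨L, h1, h2, h3⟩ := check_true cs (T.le) l7 gv L11 h7 hxl hgl hyl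
    (fun x hx => by
      have : ∃ χ, t χ = x := by
        simp only [List.mem_cons, List.mem_append, hgv, hl7, hL11, List.mem_map] at hx
        rcases hx with rfl | ⟨χ, -, h⟩ | ⟨χ, -, h⟩
        exacts [⟨η, rfl⟩, ⟨χ, h⟩, ⟨χ, h⟩]
      obtain ⟨χ, rfl⟩ := this
      exact ⟨hpok χ, hzok χ⟩)
    (by linarith) (by linarith) (Int.emod_eq_zero_of_dvd ⟨n₃, by simp only [mul_assoc] at e4 ⊢; linarith⟩)
    (by simp only [mul_assoc] at e4 ⊢; linarith [Int.natCast_nonneg n₃])
    (by linarith) (by simp only [mul_assoc] at e5 ⊢; linarith)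
    (Int.emod_eq_zero_of_dvd ⟨n₄, by simp only [mul_assoc] at e6 ⊢; linarith⟩)
    (by simp only [mul_assoc] at e6 ⊢; have := Int.mul_nonneg (Int.natCast_nonneg C) (Int.natCast_nonneg n₄); linarith)
    (All := All) rfl
    ((ht11 fun x => s11 x.1).symm.trans h11s)
    (by simp only [ordM]; push_cast; linarith [hFnn fun χ => ((t χ).1 : ℤ)])
    (by
      have h : (64009 : ℤ) ∣ ∑ χ ∈ Fl, ((t χ).1 : ℤ) * (t χ).1 := Finset.dvd_sum fun χ hχ => by
        have h := Int.natCast_dvd_natCast.2 (Nat.dvd_of_mod_eq_zero (hfl χ hχ).1)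
        exact mul_dvd_mul h h
      simp only [ordM]; push_cast
      exact Int.emod_eq_zero_of_dvd ((show (244823040 : ℤ) - sumT (fun x => (x.1 : ℤ) * x.1) All =
        ∑ χ ∈ Fl, ((t χ).1 : ℤ) * (t χ).1 by linarith) ▸ h))
    (by linarith [hFnn fun χ => φ χ]) (by linarith [hFnn fun χ => z χ])
    ((ht11 fun x => (x.1 : ℤ)).symm.trans h11d) ((ht11 fun x => x.2.1).symm.trans F.lin_eleven)
    (by rw [q11]; simp) (by rw [q11]; positivity)
    ((ht11 fun x => x.2.2).symm.trans T.lin_eleven) z11 (by rw [m11]; simp [cs]) (by rw [m11]; positivity)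
    (by simpa [ordM] using c1)
    (by
      simp only [final, Bool.and_eq_true, decide_eq_true_eq]
      refine ⟨⟨?_, ?_⟩, ?_⟩
      · simpa [ordM] using c1
      · simpa [ordM] using c2
      · simpa using c3)
  exact no_completion hcs h1 h2 h3

end Cfsg.Agent.MTwentyFour.ByOrder.ThreeCase
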